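import Mathlib

/-!
# Primary endomorphisms over a finite field
-/

set_option autoImplicit false

open scoped Classical
open Module Polynomial

namespace CfsgLib.Char.GLCusp

universe u w v

variable {F : Type u} [Field F] {V : Type w} [AddCommGroup V] [Module F V] [FiniteDimensional F V]

/-- An irreducible factor of the characteristic polynomial divides every annihilating polynomial. -/
theorem dvd_of_dvd_charpoly {g : Module.End F V} {f a : F[X]} (hf : Irreducible f) (h : f ∣ g.charpoly)
    (ha : aeval g a = 0) : f ∣ a := by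
  let k := AlgebraicClosure F
  let ι := algebraMap F k
  obtain ⟨x, hx⟩ := IsAlgClosed.exists_root (f.map ι) (by
    rw [degree_map]; exact (Polynomial.degree_pos_of_irreducible hf).ne')
  let b := Module.finBasis F V
  set A := LinearMap.toMatrix b b g with hA
  have hA0 : aeval A a = 0 := by
    show aeval (LinearMap.toMatrixAlgEquiv b g) a = 0
    rw [aeval_algHom_apply, ha, map_zero]
  have hA1 : aeval (A.map ι) (a.map ι) = 0 := by
    rw [aeval_map_algebraMap]
    show aeval ((Algebra.ofId F k).mapMatrix A) a = 0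
    rw [aeval_algHom_apply, hA0, map_zero]
  have hroot : (LinearMap.charpoly (Matrix.toLin' (A.map ι))).IsRoot x := by
    rw [Matrix.charpoly_toLin', Matrix.charpoly_map, hA, LinearMap.charpoly_toMatrix]
    exact hx.dvd (map_dvd ι h)
  obtain ⟨y, hy⟩ := ((Module.End.hasEigenvalue_iff_isRoot_charpoly _ _).2 hroot).exists_hasEigenvector
  have h2 := Module.End.aeval_apply_of_hasEigenvector (p := a.map ι) hy
  rw [show aeval (Matrix.toLin' (A.map ι)) (a.map ι) = 0 by
    show aeval ((Matrix.toLinAlgEquiv' : Matrix _ _ k ≃ₐ[k] _) (A.map ι)) (a.map ι) = 0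
    rw [aeval_algHom_apply, hA1, map_zero]] at h2
  have h3 : (a.map ι).eval x = 0 := by
    have := h2.symm
    rwa [LinearMap.zero_apply, smul_eq_zero, or_iff_left hy.2] at this
  refine (hf.dvd_iff_aeval_eq_zero (b := x) ?_).1 ?_
  · rwa [aeval_def, eval₂_eq_eval_map]
  · rwa [aeval_def, eval₂_eq_eval_map]

theorem charpoly_eq_pow {g : Module.End F V} {f : F[X]} (hf : Irreducible f) (hfm : f.Monic)
    (hnil : IsNilpotent (aeval g f)) :
    ∃ m : ℕ, g.charpoly = f ^ m ∧ m * f.natDegree = finrank F V := by
  obtain ⟨t, ht⟩ := hnil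
  obtain ⟨m, b, hb, he⟩ := WfDvdMonoid.max_power_factor g.charpoly_monic.ne_zero hf
  have hbm : b.Monic := (Monic.of_mul_monic_left (hfm.pow m) (he ▸ g.charpoly_monic))
  have hb1 : b = 1 := by
    by_contra hne
    obtain ⟨h, hhm, hh, hhb⟩ := exists_monic_irreducible_factor b (fun hu => hne (hbm.eq_one_of_isUnit hu))
    have h1 : h ∣ f ^ t := dvd_of_dvd_charpoly hh (hhb.trans (he ▸ dvd_mul_left b _)) (by rw [map_pow, ht])
    have h2 : h = f := eq_of_monic_of_associated hhm hfm
      (hh.associated_of_dvd hf (hh.prime.dvd_of_dvd_pow h1))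
    exact hb (h2 ▸ hhb)
  rw [hb1, mul_one] at he
  refine ⟨m, he, ?_⟩
  rw [← natDegree_pow, ← he, g.charpoly_natDegree]

theorem pow_finrank_eq_zero {N : Module.End F V} (hN : IsNilpotent N) : N ^ finrank F V = 0 := by
  obtain ⟨m, hm, hd⟩ := charpoly_eq_pow (g := N) irreducible_X monic_X (by rwa [aeval_X])
  rw [natDegree_X, mul_one] at hd
  have := LinearMap.aeval_self_charpoly N
  rwa [hm, hd, map_pow, aeval_X] at this

section Finite

variable [Fintype F]

theorem aeval_pow_card {A : Type v} [Ring A] [Algebra F A] (g : A) (f : F[X]) (j : ℕ) :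
    aeval (g ^ Fintype.card F ^ j) f = (aeval g f) ^ Fintype.card F ^ j := by
  induction j generalizing g with
  | zero => simp
  | succ j ih =>
    rw [pow_succ', pow_mul, ih, ← expand_aeval, FiniteField.expand_card, map_pow, ← pow_mul]

theorem pow_card_eq_self {A : Type v} [Ring A] [Algebra F A] {f : F[X]} (hf : Irreducible f) {s : A}
    (hs : aeval s f = 0) {j : ℕ} (hj : f.natDegree ∣ j) : s ^ Fintype.card F ^ j = s := by
  obtain ⟨c, hc⟩ := (hf.natDegree_dvd_iff_dvd_X_pow_card_pow_sub_X).1 hj
  have h := congrArg (aeval s) hc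
  rw [map_mul, hs, zero_mul, Nat.card_eq_fintype_card, map_sub, map_pow, aeval_X, sub_eq_zero] at h
  exact h

theorem isUnit_aeval_derivative {A : Type v} [Ring A] [Algebra F A] {f : F[X]} (hf : Irreducible f)
    {s : A} (hs : aeval s f = 0) : IsUnit (aeval s (derivative f)) := by
  obtain ⟨a, b, hab⟩ := (PerfectField.separable_of_irreducible hf : f.Separable)
  have h := congrArg (aeval s) hab
  rw [map_add, map_mul, hs, mul_zero, zero_add, map_mul, map_one] at h
  have h' : aeval s (derivative f) * aeval s b = 1 := by rw [← map_mul, mul_comm, map_mul, h]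
  exact ⟨⟨_, _, h', h⟩, rfl⟩

/-- The exponent picking out the semisimple part of a primary endomorphism. -/
noncomputable def ssExp (F : Type u) [Fintype F] (d n : ℕ) : ℕ := Fintype.card F ^ (d * (n + 1))

omit [FiniteDimensional F V] in
theorem ssExp_pos (d n : ℕ) : 0 < ssExp F d n := pow_pos Fintype.card_pos _

theorem le_ssExp {d : ℕ} (hd : 0 < d) (n : ℕ) : n ≤ ssExp F d n := by
  refine le_trans ?_ (Nat.lt_pow_self Fintype.one_lt_card).le
  exact le_trans (Nat.le_succ n) (Nat.le_mul_of_pos_left _ hd)

theorem semisimple_part {g : Module.End F V} {f : F[X]} (hf : Irreducible f)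
    (hnil : IsNilpotent (aeval g f)) :
    aeval (g ^ ssExp F f.natDegree (finrank F V)) f = 0 ∧
      IsNilpotent (g - g ^ ssExp F f.natDegree (finrank F V)) := by
  have hd := hf.natDegree_pos
  have h1 : aeval (g ^ ssExp F f.natDegree (finrank F V)) f = 0 := by
    rw [ssExp, aeval_pow_card]
    exact pow_eq_zero_of_le (le_ssExp hd _) (pow_finrank_eq_zero hnil)
  refine ⟨h1, ssExp F f.natDegree (finrank F V), ?_⟩
  obtain ⟨p, hp⟩ := CharP.exists F
  haveI : Fact p.Prime := ⟨CharP.char_is_prime F p⟩
  obtain ⟨e, -, he⟩ := FiniteField.card F p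
  set E := ssExp F f.natDegree (finrank F V) with hE
  have hpoly : ((X : F[X]) - X ^ E) ^ E = X ^ E - (X ^ E) ^ E := by
    rw [hE, ssExp, he, ← pow_mul, sub_pow_char_pow]
  have h2 := congrArg (aeval g) hpoly
  simp only [map_pow, map_sub, aeval_X] at h2
  rw [h2, hE, ssExp]
  rw [show (g ^ Fintype.card F ^ (f.natDegree * (finrank F V + 1))) ^
      Fintype.card F ^ (f.natDegree * (finrank F V + 1)) = g ^ Fintype.card F ^ (f.natDegree * (finrank F V + 1))
    from pow_card_eq_self hf h1 (Dvd.intro _ rfl), sub_self]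

/-- The decomposition of a primary endomorphism is unique. -/
theorem semisimple_part_unique {s N : Module.End F V} {f : F[X]} (hf : Irreducible f)
    (hs : aeval s f = 0) (hc : Commute s N) (hN : IsNilpotent N) :
    (s + N) ^ ssExp F f.natDegree (finrank F V) = s := by
  rcases subsingleton_or_nontrivial (Module.End F V) with h | h
  · exact Subsingleton.elim _ _
  obtain ⟨p, hp⟩ := CharP.exists F
  haveI : Fact p.Prime := ⟨CharP.char_is_prime F p⟩
  have : CharP (Module.End F V) p := charP_of_injective_algebraMap (algebraMap F (Module.End F V)).injective p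
  obtain ⟨e, -, he⟩ := FiniteField.card F p
  have h2 : N ^ ssExp F f.natDegree (finrank F V) = 0 :=
    pow_eq_zero_of_le (le_ssExp hf.natDegree_pos _) (pow_finrank_eq_zero hN)
  have h3 : (s + N) ^ ssExp F f.natDegree (finrank F V) =
      s ^ ssExp F f.natDegree (finrank F V) + N ^ ssExp F f.natDegree (finrank F V) := by
    rw [ssExp, he, ← pow_mul, add_pow_char_pow_of_commute _ _ hc]
  rw [h3, h2, add_zero, ssExp]
  exact pow_card_eq_self hf hs (Dvd.intro _ rfl)

/-- `f (g)` is the nilpotent part of `g` times an automorphism commuting with it. -/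
theorem aeval_eq_mul_unit {g : Module.End F V} {f : F[X]} (hf : Irreducible f)
    (hnil : IsNilpotent (aeval g f)) :
    ∃ u : (Module.End F V)ˣ, Commute g (u : Module.End F V) ∧
      (∃ P : F[X], (u : Module.End F V) = aeval g P) ∧
      aeval g f = (g - g ^ ssExp F f.natDegree (finrank F V)) * (u : Module.End F V) := by
  set E := ssExp F f.natDegree (finrank F V)
  obtain ⟨h1, h2⟩ := semisimple_part hf hnil
  obtain ⟨k, hk⟩ := (f.map (Polynomial.C : F →+* F[X])).binomExpansion (X ^ E) (X - X ^ E)
  rw [add_sub_cancel, Polynomial.derivative_map] at hk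
  rw [eval_map, eval_map, eval_map, eval₂_C_X] at hk
  have hu : IsUnit (aeval g ((derivative f).eval₂ Polynomial.C (X ^ E) + k * (X - X ^ E))) := by
    rw [map_add, map_mul]
    have e : aeval g ((derivative f).eval₂ Polynomial.C (X ^ E)) = aeval (g ^ E) (derivative f) := by
      rw [show (derivative f).eval₂ Polynomial.C (X ^ E) = (derivative f).comp (X ^ E) from rfl,
        aeval_comp, map_pow, aeval_X]
    rw [e]
    refine IsNilpotent.isUnit_add_left_of_commute ?_ (isUnit_aeval_derivative hf h1) ?_
    · have hy : aeval g ((X : F[X]) - X ^ E) = g - g ^ E := by rw [map_sub, map_pow, aeval_X]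
      exact Commute.isNilpotent_mul_left ((Commute.all k ((X : F[X]) - X ^ E)).map (aeval g)) (by rw [hy]; exact h2)
    · rw [← map_mul, show aeval (g ^ E) (derivative f) = aeval g ((derivative f).comp (X ^ E)) by
        rw [aeval_comp, map_pow, aeval_X]]
      exact (Commute.all _ _).map (aeval g)
  refine ⟨hu.unit, ?_, ⟨_, hu.unit_spec⟩, ?_⟩
  · rw [hu.unit_spec]
    have := (Commute.all (X : F[X]) ((derivative f).eval₂ Polynomial.C (X ^ E) + k * (X - X ^ E))).map (aeval g)
    rwa [aeval_X] at this
  · rw [hu.unit_spec]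
    have h3 := congrArg (aeval g) hk
    rw [map_add, map_add, show f.eval₂ Polynomial.C (X ^ E) = f.comp (X ^ E) from rfl, aeval_comp,
      map_pow, aeval_X, h1, zero_add, ← map_add, show (derivative f).eval₂ Polynomial.C (X ^ E) *
        (X - X ^ E) + k * (X - X ^ E) ^ 2 = (X - X ^ E) * ((derivative f).eval₂ Polynomial.C (X ^ E) +
          k * (X - X ^ E)) by ring, map_mul] at h3
    rw [h3]
    congr 1
    simp

end Finite

end CfsgLib.Char.GLCusp
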