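import Cfsg.Agent.Lib.Char.GLCusp.Lift
import Cfsg.Agent.Lib.Char.GLCusp.Primary

/-!
# Frobenius orbits in the residue field
-/

set_option autoImplicit false

open scoped Classical
open Module Polynomial

namespace CfsgLib.Char.GLCusp

open Cfsg CfsgLib.Block

universe u

variable {p : ℕ} {M : Ideal AlgInt} [M.IsMaximal] (hM : IsPModular p M) {F : Type u} [Field F]
  [Fintype F] (ι : F →+* ResField M)

/-- The residues all of whose orbit polynomials are over `F`. -/
theorem roots_orbit {f : F[X]} (hf : Irreducible f) (hfm : f.Monic) {x : ResField M}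
    (hx : (f.map ι).IsRoot x) :
    x ^ Fintype.card F ^ f.natDegree = x ∧
      (f.map ι).roots = (Multiset.range f.natDegree).map (fun i => x ^ Fintype.card F ^ i) := by
  letI := ι.toAlgebra
  set q := Fintype.card F
  set d := f.natDegree
  have haev : aeval x f = 0 := by rwa [aeval_def, eval₂_eq_eval_map]
  have hper : x ^ q ^ d = x := pow_card_eq_self hf haev (dvd_refl d)
  refine ⟨hper, ?_⟩
  have hroot : ∀ i, x ^ q ^ i ∈ (f.map ι).roots := by
    intro i
    rw [mem_roots (hfm.map ι).ne_zero, IsRoot, eval_map]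
    show aeval (x ^ q ^ i) f = 0
    rw [aeval_pow_card, haev, zero_pow (pow_ne_zero _ Fintype.card_ne_zero)]
  have hinj : ∀ a b, a < b → b < d → x ^ q ^ a ≠ x ^ q ^ b := by
    intro a b hab hbd e
    have h1 : (x ^ q ^ a) ^ q ^ (d - b) = (x ^ q ^ b) ^ q ^ (d - b) := by rw [e]
    rw [← pow_mul, ← pow_mul, ← pow_add, ← pow_add, Nat.add_sub_cancel' hbd.le, hper] at h1
    have hdvd : f ∣ X ^ Nat.card F ^ (a + (d - b)) - X := by
      rw [← hf.dvd_iff_aeval_eq_zero (b := x) haev, map_sub, map_pow, aeval_X,
        Nat.card_eq_fintype_card, h1, sub_self]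
    have hdd : d ∣ a + (d - b) := hf.natDegree_dvd_of_dvd_X_pow_card_pow_sub_X hdvd
    have := Nat.le_of_dvd (by omega) hdd
    omega
  have hnd : ((Multiset.range d).map (fun i => x ^ q ^ i)).Nodup := by
    refine Multiset.Nodup.map_on (fun a ha b hb e => ?_) (Multiset.nodup_range d)
    rw [Multiset.mem_range] at ha hb
    rcases lt_trichotomy a b with h | h | h
    · exact absurd e (hinj a b h hb)
    · exact h
    · exact absurd e.symm (hinj b a h ha)
  refine (Multiset.eq_of_le_of_card_le ((Multiset.le_iff_subset hnd).2 fun y hy => ?_) ?_).symm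
  · obtain ⟨i, -, rfl⟩ := Multiset.mem_map.1 hy
    exact hroot i
  · rw [Multiset.card_map, Multiset.card_range]
    exact (card_roots' _).trans (natDegree_map_le)

theorem lsum_map_eq_sum {f : F[X]} (hf : Irreducible f) (hfm : f.Monic) {x : ResField M}
    (hx : (f.map ι).IsRoot x) :
    lsum hM (f.map ι) = ∑ i ∈ Finset.range f.natDegree, liftRoot hM x ^ Fintype.card F ^ i := by
  rw [lsum, (roots_orbit ι hf hfm hx).2, Multiset.map_map, Finset.sum_eq_multiset_sum, Finset.range_val]
  exact congrArg Multiset.sum (Multiset.map_congr rfl fun i _ => liftRoot_pow hM x _)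

/-- The sum of the lifts along a period. -/
noncomputable def orbitSum (n : ℕ) (x : ResField M) : ℂ :=
  ∑ i ∈ Finset.range n, liftRoot hM x ^ Fintype.card F ^ i

theorem orbitSum_eq {f : F[X]} (hf : Irreducible f) (hfm : f.Monic) {x : ResField M}
    (hx : (f.map ι).IsRoot x) (m : ℕ) :
    orbitSum hM (F := F) (m * f.natDegree) x = (m : ℂ) * lsum hM (f.map ι) := by
  rw [lsum_map_eq_sum hM ι hf hfm hx, orbitSum]
  induction m with
  | zero => simp
  | succ m ih =>
    rw [Nat.succ_mul, Finset.sum_range_add, ih]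
    push_cast
    rw [add_mul, one_mul]
    congr 1
    refine Finset.sum_congr rfl fun i _ => ?_
    rw [← liftRoot_pow, ← liftRoot_pow, pow_add, pow_mul]
    congr 2
    have h := (roots_orbit ι hf hfm hx).1
    clear ih
    induction m with
    | zero => simp
    | succ m ih => rw [Nat.succ_mul, pow_add, pow_mul, ih, h]

theorem lsum_pow {P : (ResField M)[X]} (hP : P ≠ 0) (m : ℕ) :
    lsum hM (P ^ m) = (m : ℂ) * lsum hM P := by
  induction m with
  | zero => simp [lsum_one hM]
  | succ m ih => rw [pow_succ, lsum_mul hM (pow_ne_zero _ hP) hP, ih]; push_cast; ring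

end CfsgLib.Char.GLCusp
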