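import Cfsg.Agent.Lib.Char.GLCusp.Primary

/-!
# The vector space over the field generated by a semisimple endomorphism
-/

set_option autoImplicit false

open scoped Classical
open Module Polynomial

namespace CfsgLib.Char.GLCusp

universe u w v

variable {F : Type u} [Field F] {V : Type w} [AddCommGroup V] [Module F V]
  {K : Type v} [Field K] [Algebra F K]

/-- `V` with the scalars acting through `φ`. -/
def KMod (_φ : K →ₐ[F] Module.End F V) : Type w := V

variable (φ : K →ₐ[F] Module.End F V)

instance : AddCommGroup (KMod φ) := inferInstanceAs (AddCommGroup V)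

instance : Module F (KMod φ) := inferInstanceAs (Module F V)

instance : Module K (KMod φ) := Module.compHom V φ.toRingHom

instance : IsScalarTower F K (KMod φ) :=
  ⟨fun c k x => by show (φ (c • k)) x = c • (φ k) x; rw [map_smul]; rfl⟩

instance [Finite V] : Finite (KMod φ) := inferInstanceAs (Finite V)

/-- The identity, as an `F`-linear map. -/
def KMod.of : V ≃ₗ[F] KMod φ := LinearEquiv.refl F V

theorem KMod.smul_def (k : K) (x : KMod φ) : k • x = KMod.of φ (φ k ((KMod.of φ).symm x)) := rfl

/-- An endomorphism commuting with the scalars, as a linear map over them. -/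
def KMod.endOf (T : Module.End F V) (hT : ∀ k, Commute (φ k) T) : Module.End K (KMod φ) where
  toFun := fun x => KMod.of φ (T ((KMod.of φ).symm x))
  map_add' := fun x y => by simp
  map_smul' := fun k x => by
    show T ((φ k) x) = (φ k) (T x)
    exact (LinearMap.congr_fun (hT k).eq x).symm

theorem KMod.endOf_apply (T : Module.End F V) (hT : ∀ k, Commute (φ k) T) (x : V) :
    KMod.endOf φ T hT (KMod.of φ x) = KMod.of φ (T x) := rfl

theorem KMod.endOf_pow_apply (T : Module.End F V) (hT : ∀ k, Commute (φ k) T) (j : ℕ) (x : V) :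
    (KMod.endOf φ T hT ^ j) (KMod.of φ x) = KMod.of φ ((T ^ j) x) := by
  induction j with
  | zero => rfl
  | succ j ih => rw [pow_succ', Module.End.mul_apply, ih, KMod.endOf_apply, pow_succ', Module.End.mul_apply]

theorem KMod.isNilpotent_endOf (T : Module.End F V) (hT : ∀ k, Commute (φ k) T) :
    IsNilpotent (KMod.endOf φ T hT) ↔ IsNilpotent T := by
  constructor
  · rintro ⟨j, hj⟩
    exact ⟨j, LinearMap.ext fun x => (KMod.of φ).injective (by rw [← KMod.endOf_pow_apply φ T hT, hj]; rfl)⟩
  · rintro ⟨j, hj⟩
    refine ⟨j, LinearMap.ext fun x => ?_⟩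
    obtain ⟨y, rfl⟩ := (KMod.of φ).surjective x
    rw [KMod.endOf_pow_apply, hj]; rfl

/-- The maps commuting with the scalars are the linear maps over them. -/
noncomputable def KMod.endEquiv : {T : Module.End F V // ∀ k, Commute (φ k) T} ≃ Module.End K (KMod φ) where
  toFun := fun T => KMod.endOf φ T.1 T.2
  invFun := fun A =>
    ⟨(KMod.of φ).symm.toLinearMap ∘ₗ A.restrictScalars F ∘ₗ (KMod.of φ).toLinearMap, fun k =>
      LinearMap.ext fun x => (map_smul A k (KMod.of φ x)).symm⟩
  left_inv := fun _ => rfl
  right_inv := fun _ => rfl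

theorem KMod.finrank_eq [FiniteDimensional F V] [FiniteDimensional F K] :
    finrank F K * finrank K (KMod φ) = finrank F V :=
  (Module.finrank_mul_finrank F K (KMod φ)).trans (KMod.of φ).finrank_eq.symm

theorem KMod.finrank_restrictScalars [FiniteDimensional F V] [FiniteDimensional F K]
    (W : Submodule K (KMod φ)) :
    finrank F K * finrank K W = finrank F ((W.restrictScalars F).map (KMod.of φ).symm.toLinearMap) := by
  rw [LinearEquiv.finrank_map_eq]
  exact Module.finrank_mul_finrank F K W

theorem KMod.range_endOf [FiniteDimensional F V] [FiniteDimensional F K] (T : Module.End F V)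
    (hT : ∀ k, Commute (φ k) T) :
    finrank F K * finrank K (LinearMap.range (KMod.endOf φ T hT)) = finrank F (LinearMap.range T) := by
  rw [KMod.finrank_restrictScalars]
  refine congrArg (fun S : Submodule F V => finrank F S) ?_
  ext x
  constructor
  · rintro ⟨y, ⟨z, hz⟩, rfl⟩
    exact ⟨z, congrArg (KMod.of φ).symm hz⟩
  · rintro ⟨z, rfl⟩
    exact ⟨KMod.of φ (T z), ⟨KMod.of φ z, rfl⟩, rfl⟩

section AdjoinRoot

variable {f : F[X]} [Fact (Irreducible f)]

/-- The field generated by a root of an irreducible annihilating polynomial. -/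
noncomputable def rootHom (hfm : f.Monic) (s : Module.End F V) (hs : aeval s f = 0) :
    AdjoinRoot f →ₐ[F] Module.End F V :=
  (AdjoinRoot.powerBasis hfm.ne_zero).lift s (by
    rw [AdjoinRoot.powerBasis_gen, AdjoinRoot.minpoly_root hfm.ne_zero, hfm.leadingCoeff, inv_one,
      map_one, mul_one, hs])

theorem rootHom_mk (hfm : f.Monic) (s : Module.End F V) (hs : aeval s f = 0) (P : F[X]) :
    rootHom hfm s hs (AdjoinRoot.mk f P) = aeval s P := by
  rw [← AdjoinRoot.aeval_eq, ← aeval_algHom_apply]
  congr 2
  rw [rootHom, ← AdjoinRoot.powerBasis_gen hfm.ne_zero]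
  exact PowerBasis.lift_gen _ _ _

theorem commute_rootHom (hfm : f.Monic) (s : Module.End F V) (hs : aeval s f = 0) (T : Module.End F V)
    (hT : Commute s T) (k : AdjoinRoot f) : Commute (rootHom hfm s hs k) T := by
  obtain ⟨P, rfl⟩ := AdjoinRoot.mk_surjective k
  rw [rootHom_mk]
  induction P using Polynomial.induction_on' with
  | add P Q hP hQ => rw [map_add]; exact hP.add_left hQ
  | monomial n c =>
    rw [aeval_monomial]
    exact (Algebra.commute_algebraMap_left c T).mul_left (hT.pow_left n)

theorem finrank_adjoinRoot (hfm : f.Monic) : finrank F (AdjoinRoot f) = f.natDegree := by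
  rw [(AdjoinRoot.powerBasis hfm.ne_zero).finrank, AdjoinRoot.powerBasis_dim]

theorem card_adjoinRoot [Fintype F] (hfm : f.Monic) :
    Finite (AdjoinRoot f) ∧ Nat.card (AdjoinRoot f) = Fintype.card F ^ f.natDegree := by
  have := (AdjoinRoot.powerBasis hfm.ne_zero).finite
  refine ⟨Module.finite_of_finite F, ?_⟩
  rw [Module.natCard_eq_pow_finrank (K := F), finrank_adjoinRoot hfm, Nat.card_eq_fintype_card]

end AdjoinRoot

end CfsgLib.Char.GLCusp
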