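import Cfsg.Agent.Lib.Block.Lift
import Cfsg.Agent.Lib.Char.Virtual
import Cfsg.Agent.Lib.Char.Brauer
import Cfsg.Agent.Lib.Block.BrauerChars

/-!
# Lifted eigenvalue sums of a modular representation of a group of order prime to `p`
-/

set_option autoImplicit false

open scoped Classical
open Module Polynomial MonoidAlgebra

namespace CfsgLib.Char.GLCusp

open Cfsg CfsgLib.Block

universe u w

variable {p : ℕ} {M : Ideal AlgInt} [M.IsMaximal] (hM : IsPModular p M)

/-- The root of unity of order prime to `p` above a residue, and `0` above `0`. -/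
noncomputable def liftRoot (x : ResField M) : ℂ :=
  if h : x = 0 then 0 else ((exists_rootOfUnity_lift hM h).choose_spec.choose : locRing M)

theorem liftRoot_zero : liftRoot hM (0 : ResField M) = 0 := dif_pos rfl

theorem liftRoot_res {z : locRing M} {m : ℕ} (hm : ¬ p ∣ m) (hz : z ^ m = 1) :
    liftRoot hM (res M z) = z := by
  have hne : res M z ≠ 0 := by
    intro h
    have := congrArg (res M) hz
    rw [map_pow, map_one, h, zero_pow (fun e : m = 0 => hm (by rw [e]; exact dvd_zero p))] at this
    exact zero_ne_one this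
  rw [liftRoot, dif_neg hne]
  obtain ⟨hm', hz', hr⟩ := (exists_rootOfUnity_lift hM hne).choose_spec.choose_spec
  refine congrArg Subtype.val (res_rootOfUnity_injective hM (fun h => (hM.1.dvd_mul.1 h).elim hm hm')
    ?_ ?_ hr)
  · rw [mul_comm, pow_mul, hz', one_pow]
  · rw [pow_mul, hz, one_pow]

theorem exists_liftRoot {x : ResField M} (hx : x ≠ 0) :
    ∃ (m : ℕ) (z : locRing M), ¬ p ∣ m ∧ z ^ m = 1 ∧ res M z = x ∧ liftRoot hM x = z := by
  obtain ⟨m, z, hm, hz, hr⟩ := exists_rootOfUnity_lift hM hx
  exact ⟨m, z, hm, hz, hr, hr ▸ liftRoot_res hM hm hz⟩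

theorem liftRoot_mul (x y : ResField M) : liftRoot hM (x * y) = liftRoot hM x * liftRoot hM y := by
  rcases eq_or_ne x 0 with rfl | hx
  · simp [liftRoot_zero hM]
  rcases eq_or_ne y 0 with rfl | hy
  · simp [liftRoot_zero hM]
  obtain ⟨m, z, hm, hz, hr, e⟩ := exists_liftRoot hM hx
  obtain ⟨m', z', hm', hz', hr', e'⟩ := exists_liftRoot hM hy
  rw [e, e', ← hr, ← hr', ← map_mul,
    liftRoot_res hM (m := m * m') (fun h => (hM.1.dvd_mul.1 h).elim hm hm') ?_]
  · rfl
  · rw [mul_pow, pow_mul, hz, one_pow, one_mul, mul_comm, pow_mul, hz', one_pow]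

theorem liftRoot_one : liftRoot hM (1 : ResField M) = 1 := by
  have := liftRoot_res hM (z := (1 : locRing M)) (m := 1) hM.1.not_dvd_one (one_pow 1)
  rwa [map_one] at this

/-- `liftRoot` as a homomorphism of monoids. -/
noncomputable def liftHom : ResField M →* ℂ :=
  { toFun := liftRoot hM, map_one' := liftRoot_one hM, map_mul' := liftRoot_mul hM }

theorem liftRoot_pow (x : ResField M) (n : ℕ) : liftRoot hM (x ^ n) = liftRoot hM x ^ n :=
  map_pow (liftHom hM) x n

theorem liftRoot_injective : Function.Injective (liftRoot hM : ResField M → ℂ) := by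
  intro x y h
  rcases eq_or_ne x 0 with rfl | hx
  · by_contra hy
    obtain ⟨m, z, hm, hz, -, e⟩ := exists_liftRoot hM (Ne.symm hy)
    rw [liftRoot_zero, e] at h
    have h0 : z = 0 := Subtype.ext h.symm
    rw [h0, zero_pow (fun e : m = 0 => hm (by rw [e]; exact dvd_zero p))] at hz
    exact zero_ne_one hz
  · obtain ⟨m, z, hm, hz, hr, e⟩ := exists_liftRoot hM hx
    rcases eq_or_ne y 0 with rfl | hy
    · rw [liftRoot_zero, e] at h
      have h0 : z = 0 := Subtype.ext h
      rw [h0, map_zero] at hr
      exact hr.symm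
    · obtain ⟨m', z', -, -, hr', e'⟩ := exists_liftRoot hM hy
      rw [e, e'] at h
      rw [← hr, ← hr', Subtype.ext h]

/-- The sum of the lifts of the roots of a polynomial. -/
noncomputable def lsum (P : (ResField M)[X]) : ℂ := (P.roots.map (liftRoot hM)).sum

theorem lsum_mul {P Q : (ResField M)[X]} (hP : P ≠ 0) (hQ : Q ≠ 0) :
    lsum hM (P * Q) = lsum hM P + lsum hM Q := by
  rw [lsum, roots_mul (mul_ne_zero hP hQ), Multiset.map_add, Multiset.sum_add, lsum, lsum]

theorem lsum_X_pow (n : ℕ) : lsum hM (X ^ n : (ResField M)[X]) = 0 := by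
  rw [lsum, roots_X_pow, Multiset.map_nsmul, Multiset.sum_nsmul, Multiset.map_singleton,
    Multiset.sum_singleton, liftRoot_zero, smul_zero]

theorem lsum_one : lsum hM (1 : (ResField M)[X]) = 0 := by simp [lsum]

/-! ### the left ideal generated by an idempotent -/

section Idem

variable {A : Type*} [CommRing A] {S : Type u} [Group S] [Fintype S]

/-- The matrix of `x ↦ s x a` on the group algebra. -/
noncomputable def idemMat (a : MonoidAlgebra A S) (s : S) : Matrix S S A :=
  Matrix.of fun x y => a.coeff (y⁻¹ * s⁻¹ * x)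

/-- The map `x ↦ s x a`. -/
noncomputable def idemMap (a : MonoidAlgebra A S) (s : S) : Module.End A (MonoidAlgebra A S) :=
  LinearMap.mulLeft A (single s 1) ∘ₗ LinearMap.mulRight A a

theorem toMatrix_idemMap (a : MonoidAlgebra A S) (s : S) :
    LinearMap.toMatrix (MonoidAlgebra.basis S A) (MonoidAlgebra.basis S A) (idemMap a s) =
      idemMat a s := by
  ext x y
  rw [LinearMap.toMatrix_apply, MonoidAlgebra.basis_apply]
  show ((single s 1 : MonoidAlgebra A S) * ((single y 1 : MonoidAlgebra A S) * a)).coeff x = _
  rw [← mul_assoc, single_mul_single, one_mul, coeff_single_mul_apply, one_mul]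
  simp [idemMat, mul_inv_rev]

end Idem

variable {S : Type u} [Group S] [Fintype S]

/-- The lifted eigenvalue sums of the left ideal of an idempotent form a character. -/
theorem exists_character_idem (hS : ¬ p ∣ Fintype.card S) {a : MonoidAlgebra (ResField M) S}
    (ha : a * a = a) :
    IsCharacter S (fun s => lsum hM (idemMap a s).charpoly) := by
  choose l hl using fun c : ResField M => res_surjective (M := M) c
  let a' : MonoidAlgebra (locRing M) S := gaOfFun fun x => l (a.coeff x)
  have ha' : toK M a' = a := ga_ext fun x => by simp [a', hl]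
  obtain ⟨q, hq, hq'⟩ := exists_lift_idem a' (by rw [ha', ha])
  set b := Polynomial.aeval a' q
  rw [ha'] at hq'
  let φ : locRing M →+* ℂ := (locRing M).subtype
  let bC : MonoidAlgebra ℂ S := mapRingHom S φ b
  have hbC : bC * bC = bC := by rw [← map_mul, hq]
  have hcoC : ∀ x, bC.coeff x = φ (b.coeff x) := fun x => by simp [bC]
  have hcoK : ∀ x, a.coeff x = res M (b.coeff x) := fun x => by rw [← hq']; simp
  have hmatC : ∀ s, idemMat bC s = (idemMat b s).map φ := fun s => by
    ext x y; simp [idemMat, hcoC]
  have hmatK : ∀ s, idemMat a s = (idemMat b s).map (res M) := fun s => by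
    ext x y; simp [idemMat, hcoK]
  let I : Submodule ℂ (MonoidAlgebra ℂ S) := LinearMap.range (LinearMap.mulRight ℂ bC)
  have hfix : ∀ x ∈ I, x * bC = x := by
    rintro x ⟨y, rfl⟩
    show y * bC * bC = y * bC
    rw [mul_assoc, hbC]
  have hI : ∀ (s : S) (x : MonoidAlgebra ℂ S), x ∈ I →
      LinearMap.mulLeft ℂ (single s (1 : ℂ)) x ∈ I := fun s x hx =>
    ⟨single s 1 * x, by show single s 1 * x * bC = _; rw [mul_assoc, hfix x hx]; rfl⟩
  let ρ : Representation ℂ S I :=
    { toFun := fun s => (LinearMap.mulLeft ℂ (single s (1 : ℂ))).restrict (hI s)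
      map_one' := LinearMap.ext fun x => Subtype.ext (by
        show (single (1 : S) (1 : ℂ) : MonoidAlgebra ℂ S) * (x : MonoidAlgebra ℂ S) = _
        rw [← one_def, one_mul]; rfl)
      map_mul' := fun s t => LinearMap.ext fun x => Subtype.ext (by
        show (single (s * t) (1 : ℂ) : MonoidAlgebra ℂ S) * (x : MonoidAlgebra ℂ S) =
          single s 1 * (single t 1 * (x : MonoidAlgebra ℂ S))
        rw [← mul_assoc, single_mul_single, one_mul]) }
  suffices h : ∀ s, lsum hM (idemMap a s).charpoly = ρ.character s by
    rw [show (fun s => lsum hM (idemMap a s).charpoly) = ρ.character from funext h]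
    exact isCharacter_character ρ
  intro s
  have hmem : ∀ x, idemMap bC s x ∈ I := fun x => hI s _ ⟨x, rfl⟩
  have htr : ρ.character s = LinearMap.trace ℂ _ (idemMap bC s) := by
    rw [← LinearMap.trace_restrict_eq_of_forall_mem I _ hmem]
    refine congrArg (LinearMap.trace ℂ I) (LinearMap.ext fun x => Subtype.ext ?_)
    show single s 1 * (x : MonoidAlgebra ℂ S) = single s 1 * ((x : MonoidAlgebra ℂ S) * bC)
    rw [hfix _ x.2]
  set o := orderOf s
  have ho : ¬ p ∣ o := fun h => hS (h.trans (orderOf_dvd_card))
  -- the eigenvalues are `0` or roots of unity of order dividing `o`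
  have heig : ∀ z ∈ (idemMat bC s).charpoly.roots, z = 0 ∨ z ^ o = 1 := by
    intro z hz
    rw [← toMatrix_idemMap, LinearMap.charpoly_toMatrix, mem_roots ((idemMap bC s).charpoly_monic.ne_zero),
      ← Module.End.hasEigenvalue_iff_isRoot_charpoly] at hz
    obtain ⟨x, hx⟩ := hz.exists_hasEigenvector
    have hpow : ∀ n : ℕ, (idemMap bC s ^ (n + 1)) x = single (s ^ (n + 1)) 1 * (x * bC) := by
      intro n
      induction n with
      | zero => simp [idemMap]
      | succ n ih =>
        rw [pow_succ', Module.End.mul_apply, ih]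
        show single s 1 * (single (s ^ (n + 1)) 1 * (x * bC) * bC) = _
        rw [mul_assoc, mul_assoc x, hbC, ← mul_assoc (single s 1), single_mul_single, one_mul,
          ← pow_succ']
    obtain ⟨o', ho'⟩ : ∃ o', o = o' + 1 := ⟨o - 1, by have := orderOf_pos s; omega⟩
    have h1 : (idemMap bC s ^ (o + 1)) x = idemMap bC s x := by
      rw [hpow, pow_succ, pow_orderOf_eq_one, one_mul]; rfl
    rw [hx.pow_apply, hx.apply_eq_smul] at h1
    have h2 : z ^ (o + 1) = z := smul_left_injective ℂ hx.2 h1
    rcases eq_or_ne z 0 with h | h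
    · exact Or.inl h
    · right
      rw [pow_succ] at h2
      exact mul_right_cancel₀ h (h2.trans (one_mul z).symm)
  -- the roots over the local ring
  obtain ⟨R, hR⟩ := exists_roots_locRing (f := (idemMat b s).charpoly) (Matrix.charpoly_monic _)
  have hC : (idemMat bC s).charpoly.roots = R.map φ := by
    rw [hmatC, Matrix.charpoly_map, hR, Polynomial.map_multiset_prod, Multiset.map_map]
    simp only [Function.comp_def, Polynomial.map_sub, map_X, map_C]
    rw [← roots_multiset_prod_X_sub_C (R.map φ), Multiset.map_map]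
    rfl
  have hK : (idemMap a s).charpoly.roots = R.map (res M) := by
    rw [← LinearMap.charpoly_toMatrix _ (MonoidAlgebra.basis S (ResField M)), toMatrix_idemMap,
      hmatK, Matrix.charpoly_map, hR, Polynomial.map_multiset_prod, Multiset.map_map]
    simp only [Function.comp_def, Polynomial.map_sub, map_X, map_C]
    rw [← roots_multiset_prod_X_sub_C (R.map (res M)), Multiset.map_map]
    rfl
  rw [htr, LinearMap.trace_eq_matrix_trace ℂ (MonoidAlgebra.basis S ℂ), toMatrix_idemMap,
    Matrix.trace_eq_sum_roots_charpoly, hC, lsum, hK, Multiset.map_map]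
  refine congrArg Multiset.sum (Multiset.map_congr rfl fun z hz => ?_)
  show liftRoot hM (res M z) = φ z
  rcases heig (φ z) (hC ▸ Multiset.mem_map_of_mem φ hz) with h | h
  · rw [show z = 0 from Subtype.ext h, map_zero, liftRoot_zero, map_zero]
  · exact liftRoot_res hM ho (Subtype.ext h)

theorem lsum_isCompl {R : Type*} [Ring R] [Algebra (ResField M) R] {W : Type w} [AddCommGroup W]
    [Module (ResField M) W] [Module R W] [IsScalarTower (ResField M) R W]
    [FiniteDimensional (ResField M) W] {C D : Submodule R W} [FiniteDimensional (ResField M) C]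
    [FiniteDimensional (ResField M) D] (h : IsCompl C D) (r : R) :
    lsum hM (Algebra.lsmul (ResField M) (ResField M) W r).charpoly =
      lsum hM (Algebra.lsmul (ResField M) (ResField M) C r).charpoly +
        lsum hM (Algebra.lsmul (ResField M) (ResField M) D r).charpoly := by
  let e : (C × D) ≃ₗ[ResField M] W := (Submodule.prodEquivOfIsCompl C D h).restrictScalars _
  have he : Algebra.lsmul (ResField M) (ResField M) W r =
      e.conj ((Algebra.lsmul (ResField M) (ResField M) C r).prodMap
        (Algebra.lsmul (ResField M) (ResField M) D r)) := by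
    refine LinearMap.ext fun x => ?_
    obtain ⟨y, rfl⟩ := e.surjective x
    rw [LinearEquiv.conj_apply_apply, LinearEquiv.symm_apply_apply]
    show r • (Submodule.prodEquivOfIsCompl C D h) y = (Submodule.prodEquivOfIsCompl C D h) (r • y)
    rw [map_smul]
  rw [he, LinearEquiv.charpoly_conj, LinearMap.charpoly_prodMap,
    lsum_mul hM (LinearMap.charpoly_monic _).ne_zero (LinearMap.charpoly_monic _).ne_zero]

/-- A cyclic module of the group algebra. -/
theorem isCharacter_lsum_cyclic (hS : ¬ p ∣ Fintype.card S) {W : Type w} [AddCommGroup W]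
    [Module (ResField M) W] [Module (MonoidAlgebra (ResField M) S) W]
    [IsScalarTower (ResField M) (MonoidAlgebra (ResField M) S) W] [FiniteDimensional (ResField M) W]
    (v : W) (hv : LinearMap.range (LinearMap.toSpanSingleton (MonoidAlgebra (ResField M) S) W v) = ⊤) :
    IsCharacter S (fun s =>
      lsum hM (Algebra.lsmul (ResField M) (ResField M) W (single s 1 : MonoidAlgebra (ResField M) S)).charpoly) := by
  set R := MonoidAlgebra (ResField M) S
  have := charP_resField hM
  haveI : NeZero (Nat.card S : ResField M) := ⟨fun h => hS (by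
    rw [← Nat.card_eq_fintype_card]; exact (CharP.cast_eq_zero_iff _ p _).1 h)⟩
  set φ : R →ₗ[R] W := LinearMap.toSpanSingleton R W v
  obtain ⟨J, hJ⟩ := exists_isCompl (LinearMap.ker φ)
  obtain ⟨e, he, a, haJ, hea⟩ := Submodule.mem_sup.1
    (hJ.codisjoint.eq_top.symm ▸ Submodule.mem_top : (1 : R) ∈ LinearMap.ker φ ⊔ J)
  have hmul : ∀ x : R, x * e ∈ LinearMap.ker φ ∧ x * a ∈ J ∧ x * e + x * a = x := fun x =>
    ⟨Submodule.smul_mem _ x he, J.smul_mem x haJ, by rw [← mul_add, hea, mul_one]⟩
  have hJfix : ∀ x ∈ J, x * a = x := by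
    intro x hx
    obtain ⟨h1, h2, h3⟩ := hmul x
    have h4 : x * e = x - x * a := eq_sub_of_add_eq h3
    have h5 : x * e = 0 := Submodule.disjoint_def.1 hJ.disjoint _ h1 (h4 ▸ J.sub_mem hx h2)
    rw [h5, zero_add] at h3
    exact h3
  have hkill : ∀ x ∈ LinearMap.ker φ, x * a = 0 := by
    intro x hx
    obtain ⟨h1, h2, h3⟩ := hmul x
    have h4 : x * a = x - x * e := eq_sub_of_add_eq' h3
    exact Submodule.disjoint_def.1 hJ.disjoint _ (h4 ▸ Submodule.sub_mem _ hx h1) h2
  have haa : a * a = a := hJfix a haJ
  have : Finite S := Finite.of_fintype S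
  have : FiniteDimensional (ResField M) R := Module.Finite.of_basis (MonoidAlgebra.basis S (ResField M))
  have : FiniteDimensional (ResField M) J :=
    inferInstanceAs (FiniteDimensional (ResField M) (J.restrictScalars (ResField M)))
  have : FiniteDimensional (ResField M) (LinearMap.ker φ) :=
    inferInstanceAs (FiniteDimensional (ResField M) ((LinearMap.ker φ).restrictScalars (ResField M)))
  let eW : J ≃ₗ[R] W := LinearEquiv.ofBijective (φ ∘ₗ J.subtype) (by
    constructor
    · rw [injective_iff_map_eq_zero]
      intro x hx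
      exact Subtype.ext (Submodule.disjoint_def.1 hJ.disjoint _ hx x.2)
    · intro y
      obtain ⟨x, rfl⟩ := (hv.symm ▸ Submodule.mem_top : y ∈ LinearMap.range φ)
      refine ⟨⟨x * a, (hmul x).2.1⟩, ?_⟩
      show φ (x * a) = φ x
      conv_rhs => rw [← (hmul x).2.2, map_add, LinearMap.mem_ker.1 (hmul x).1, zero_add])
  let eP : (↥J × ↥(LinearMap.ker φ)) ≃ₗ[ResField M] R :=
    (Submodule.prodEquivOfIsCompl J (LinearMap.ker φ) hJ.symm).restrictScalars _
  suffices h : ∀ s : S, lsum hM (Algebra.lsmul (ResField M) (ResField M) W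
      (single s 1 : R)).charpoly = lsum hM (idemMap a s).charpoly by
    rw [show (fun s => lsum hM (Algebra.lsmul (ResField M) (ResField M) W (single s 1 : R)).charpoly) =
      fun s => lsum hM (idemMap a s).charpoly from funext h]
    exact exists_character_idem hM hS haa
  intro s
  have h1 : Algebra.lsmul (ResField M) (ResField M) W (single s 1 : R) =
      (eW.restrictScalars (ResField M)).conj (Algebra.lsmul (ResField M) (ResField M) J (single s 1 : R)) := by
    refine LinearMap.ext fun x => ?_
    obtain ⟨y, rfl⟩ := eW.surjective x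
    rw [LinearEquiv.conj_apply_apply]
    show (single s 1 : R) • eW y = eW ((single s 1 : R) • eW.symm (eW y))
    rw [LinearEquiv.symm_apply_apply, map_smul]
  have h2 : idemMap a s = eP.conj ((Algebra.lsmul (ResField M) (ResField M) J (single s 1 : R)).prodMap 0) := by
    refine LinearMap.ext fun x => ?_
    obtain ⟨⟨y, z⟩, rfl⟩ := eP.surjective x
    rw [LinearEquiv.conj_apply_apply, LinearEquiv.symm_apply_apply]
    show single s 1 * (((y : R) + (z : R)) * a) = single s 1 * (y : R) + (0 : R)
    rw [add_mul, hJfix _ y.2, hkill _ z.2, add_zero, add_zero]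
  rw [h1, h2, LinearEquiv.charpoly_conj, LinearEquiv.charpoly_conj, LinearMap.charpoly_prodMap,
    LinearMap.charpoly_zero, lsum_mul hM (LinearMap.charpoly_monic _).ne_zero (pow_ne_zero _ X_ne_zero),
    lsum_X_pow, add_zero]

/-- The lifted eigenvalue sums of a module of the group algebra. -/
theorem isCharacter_lsum_module (hS : ¬ p ∣ Fintype.card S) :
    ∀ (d : ℕ) (W : Type w) [AddCommGroup W] [Module (ResField M) W]
      [Module (MonoidAlgebra (ResField M) S) W]
      [IsScalarTower (ResField M) (MonoidAlgebra (ResField M) S) W] [FiniteDimensional (ResField M) W],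
      finrank (ResField M) W ≤ d → IsCharacter S (fun s =>
        lsum hM (Algebra.lsmul (ResField M) (ResField M) W (single s 1 : MonoidAlgebra (ResField M) S)).charpoly) := by
  intro d
  induction d with
  | zero =>
    intro W _ _ _ _ _ hd
    have h0 : finrank (ResField M) W = 0 := Nat.le_zero.1 hd
    have : ∀ f : Module.End (ResField M) W, f.charpoly = 1 := fun f =>
      (Polynomial.Monic.natDegree_eq_zero f.charpoly_monic).1 (by rw [f.charpoly_natDegree, h0])
    simp only [this, lsum_one]
    exact isCharacter_zero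
  | succ d ih =>
    intro W _ _ _ _ _ hd
    by_cases h0 : finrank (ResField M) W ≤ d
    · exact ih W h0
    have : Nontrivial W := Module.nontrivial_of_finrank_pos (R := ResField M) (by omega)
    obtain ⟨v, hv⟩ := exists_ne (0 : W)
    set R := MonoidAlgebra (ResField M) S
    have := charP_resField hM
    haveI : NeZero (Nat.card S : ResField M) := ⟨fun h => hS (by
      rw [← Nat.card_eq_fintype_card]; exact (CharP.cast_eq_zero_iff _ p _).1 h)⟩
    set C : Submodule R W := LinearMap.range (LinearMap.toSpanSingleton R W v) with hC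
    obtain ⟨D, hD⟩ := exists_isCompl C
    have : FiniteDimensional (ResField M) C :=
      inferInstanceAs (FiniteDimensional (ResField M) (C.restrictScalars (ResField M)))
    have : FiniteDimensional (ResField M) D :=
      inferInstanceAs (FiniteDimensional (ResField M) (D.restrictScalars (ResField M)))
    have hvC : v ∈ C := ⟨1, by simp⟩
    have hDlt : finrank (ResField M) D < finrank (ResField M) W := by
      refine lt_of_le_of_ne (Submodule.finrank_le (D.restrictScalars (ResField M))) fun h => hv ?_
      have : D.restrictScalars (ResField M) = ⊤ := Submodule.eq_top_of_finrank_eq h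
      exact Submodule.disjoint_def.1 hD.disjoint v hvC
        ((this.symm ▸ Submodule.mem_top : v ∈ D.restrictScalars (ResField M)))
    simp only [lsum_isCompl hM hD]
    refine isCharacter_add ?_ (ih D (by omega))
    refine isCharacter_lsum_cyclic hM hS (⟨v, hvC⟩ : C) ?_
    refine Submodule.eq_top_iff'.2 fun x => ?_
    obtain ⟨r, hr⟩ := x.2
    exact ⟨r, Subtype.ext hr⟩

/-- A matrix representation of a group of order prime to `p`. -/
theorem isCharacter_lsum_matrix (hS : ¬ p ∣ Fintype.card S) {n : ℕ}
    (σ : S →* Matrix (Fin n) (Fin n) (ResField M)) :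
    IsCharacter S (fun s => lsum hM (σ s).charpoly) := by
  let ρ : Representation (ResField M) S (Fin n → ResField M) :=
    (Matrix.toLinAlgEquiv' : Matrix (Fin n) (Fin n) (ResField M) ≃ₐ[ResField M] _).toAlgHom.toMonoidHom.comp σ
  have : FiniteDimensional (ResField M) ρ.asModule :=
    Module.Finite.equiv ρ.asModuleEquiv.symm
  have h := isCharacter_lsum_module hM hS _ ρ.asModule le_rfl
  have e : ∀ s, (Algebra.lsmul (ResField M) (ResField M) ρ.asModule
      (single s 1 : MonoidAlgebra (ResField M) S)).charpoly = (σ s).charpoly := by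
    intro s
    have he : Algebra.lsmul (ResField M) (ResField M) ρ.asModule
        (single s 1 : MonoidAlgebra (ResField M) S) = ρ.asModuleEquiv.symm.conj (ρ s) := by
      refine LinearMap.ext fun x => ρ.asModuleEquiv.injective ?_
      rw [LinearEquiv.conj_apply_apply, LinearEquiv.apply_symm_apply, LinearEquiv.symm_symm]
      show ρ.asModuleEquiv ((single s 1 : MonoidAlgebra (ResField M) S) • x) = _
      rw [Representation.single_smul, one_smul]
      rfl
    rw [he, LinearEquiv.charpoly_conj, ← LinearMap.charpoly_toMatrix (ρ s) (Pi.basisFun _ _)]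
    congr 1
    show LinearMap.toMatrix' (Matrix.toLin' (σ s)) = σ s
    rw [LinearMap.toMatrix'_toLin']
  simp only [e] at h
  exact h

end CfsgLib.Char.GLCusp
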