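import Cfsg.Agent.Lib.Char.GLCusp.Value
import Cfsg.Agent.Lib.Char.Induction

/-!
# The class function is a generalized character
-/

set_option autoImplicit false

open scoped Classical ComplexConjugate
open Module Polynomial

namespace CfsgLib.Char.GLCusp

open Cfsg CfsgLib.Block

universe u w v

section Orbits

variable {G : Type v} [Group G] [Fintype G] {X : Type w} [MulAction G X]

/-- A sum over fixed points of local generalized characters is a generalized character. -/
theorem isGeneralized_sum_fixed (φ : G → X → ℂ)
    (heq : ∀ (h g : G) (x : X), φ (h * g * h⁻¹) (h • x) = φ g x)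
    (hloc : ∀ x, IsGeneralizedCharacter (MulAction.stabilizer G x) (fun g => φ (g : G) x)) :
    ∀ (k : ℕ) (S : Finset X), S.card = k → (∀ h : G, ∀ x ∈ S, h • x ∈ S) →
      IsGeneralizedCharacter G (fun g => ∑ x ∈ S, if g • x = x then φ g x else 0) := by
  intro k
  induction k using Nat.strong_induction_on with
  | _ k ih =>
    intro S hk hS
    rcases S.eq_empty_or_nonempty with rfl | ⟨x₀, hx₀⟩
    · exact isGeneralizedCharacter_zero
    set H := MulAction.stabilizer G x₀ with hHdef
    have := Fintype.ofFinite H
    let O := Finset.univ.image fun h : G => h • x₀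
    have hOS : O ⊆ S := fun y hy => by
      obtain ⟨h, -, rfl⟩ := Finset.mem_image.1 hy
      exact hS h _ hx₀
    have hO : IsGeneralizedCharacter G (fun g => ∑ x ∈ O, if g • x = x then φ g x else 0) := by
      have hg := isGeneralizedCharacter_indFun H (hloc x₀)
      refine (congrArg (IsGeneralizedCharacter G) (funext fun g => ?_)).mp hg
      have hext : ∀ y : G, extendByZero H (fun h : H => φ (h : G) x₀) (y⁻¹ * g * y) =
          if g • (y • x₀) = y • x₀ then φ g (y • x₀) else 0 := by
        intro y
        have hmem : y⁻¹ * g * y ∈ H ↔ g • (y • x₀) = y • x₀ := by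
          rw [hHdef, MulAction.mem_stabilizer_iff, mul_smul, mul_smul, inv_smul_eq_iff]
        rw [extendByZero]
        split_ifs with h
        · rw [show y⁻¹ * g * y = ((⟨y⁻¹ * g * y, hmem.2 h⟩ : H) : G) from rfl,
            Subtype.val_injective.extend_apply]
          show φ (y⁻¹ * g * y) x₀ = _
          rw [← heq y (y⁻¹ * g * y) x₀]
          congr 1
          group
        · rw [Function.extend_apply' _ _ _ (fun ⟨z, e⟩ => h (hmem.1 (e ▸ z.2)))]
          rfl
      simp only [indFun]
      refine Eq.trans (congrArg _ (Finset.sum_congr rfl fun y _ => hext y)) ?_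
      rw [← Finset.sum_fiberwise_of_maps_to (g := fun y : G => y • x₀) (t := O)
        (fun y hy => Finset.mem_image_of_mem _ hy), Finset.mul_sum]
      refine Finset.sum_congr rfl fun z hz => ?_
      obtain ⟨a, -, rfl⟩ := Finset.mem_image.1 hz
      rw [Finset.sum_congr rfl (fun y hy => by rw [(Finset.mem_filter.1 hy).2] :
        ∀ y ∈ Finset.univ.filter (fun y : G => y • x₀ = a • x₀),
          (if g • (y • x₀) = y • x₀ then φ g (y • x₀) else 0) =
          if g • (a • x₀) = a • x₀ then φ g (a • x₀) else 0), Finset.sum_const, nsmul_eq_mul,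
        ← mul_assoc]
      have hcard : (Finset.univ.filter (fun y : G => y • x₀ = a • x₀)).card = Nat.card H := by
        rw [← Fintype.card_subtype, ← Nat.card_eq_fintype_card]
        exact Nat.card_congr
          { toFun := fun y => ⟨a⁻¹ * y.1, by rw [hHdef, MulAction.mem_stabilizer_iff, mul_smul, y.2, inv_smul_smul]⟩
            invFun := fun h => ⟨a * h.1, by rw [mul_smul, MulAction.mem_stabilizer_iff.1 h.2]⟩
            left_inv := fun y => Subtype.ext (mul_inv_cancel_left _ _)
            right_inv := fun h => Subtype.ext (inv_mul_cancel_left _ _) }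
      rw [hcard, inv_mul_cancel₀ (Nat.cast_ne_zero.2 Nat.card_pos.ne'), one_mul]
    have hlt : (S \ O).card < k := by
      rw [← hk]
      refine Finset.card_lt_card (Finset.sdiff_ssubset hOS ⟨x₀, ?_⟩)
      exact Finset.mem_image.2 ⟨1, Finset.mem_univ _, one_smul _ _⟩
    have hrest := ih _ hlt (S \ O) rfl (fun h x hx => by
      rw [Finset.mem_sdiff] at hx ⊢
      refine ⟨hS h x hx.1, fun hc => hx.2 ?_⟩
      obtain ⟨a, -, ha⟩ := Finset.mem_image.1 hc
      exact Finset.mem_image.2 ⟨h⁻¹ * a, Finset.mem_univ _, by rw [mul_smul, ha, inv_smul_smul]⟩)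
    refine (congrArg (IsGeneralizedCharacter G) (funext fun g => ?_)).mp
      (isGeneralizedCharacter_add hrest hO)
    exact Finset.sum_sdiff hOS

end Orbits

variable {p : ℕ} {M : Ideal AlgInt} [M.IsMaximal] (hM : IsPModular p M) {F : Type u} [Field F]
  [Fintype F] (ι : F →+* ResField M)

theorem fres_top {V : Type w} [AddCommGroup V] [Module F V] [FiniteDimensional F V] (g : Module.End F V) :
    fres hM ι g ⊤ = fcl hM ι g := by
  rw [fres, dif_pos fun x _ => Submodule.mem_top, ← fcl_conj hM ι Submodule.topEquiv]
  rfl

theorem fres_transport {V : Type w} [AddCommGroup V] [Module F V] [FiniteDimensional F V]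
    (e : V ≃ₗ[F] V) (g : Module.End F V) (W : Submodule F V) :
    fres hM ι (e.conj g) (W.map e.toLinearMap) = fres hM ι g W := by
  have hiff : (∀ x ∈ W.map e.toLinearMap, e.conj g x ∈ W.map e.toLinearMap) ↔ ∀ x ∈ W, g x ∈ W := by
    constructor
    · intro h x hx
      obtain ⟨y, hy, he⟩ := h (e x) ⟨x, hx, rfl⟩
      rw [LinearEquiv.conj_apply_apply, LinearEquiv.symm_apply_apply] at he
      rw [← e.injective he]; exact hy
    · rintro h _ ⟨x, hx, rfl⟩
      refine ⟨g x, h x hx, ?_⟩
      show e (g x) = e.conj g (e x)
      rw [LinearEquiv.conj_apply_apply, LinearEquiv.symm_apply_apply]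
  rw [fres, fres]
  by_cases h : ∀ x ∈ W, g x ∈ W
  · rw [dif_pos h, dif_pos (hiff.2 h), ← fcl_conj hM ι (e.submoduleMap W) (g.restrict h)]
    congr 1
  · rw [dif_neg h, dif_neg fun e' => h (hiff.1 e')]

theorem exists_adams_exp (hM : IsPModular p M) [CharP F p] {N : ℕ} (hN : N ≠ 0) :
    ∃ b : ℕ, p ^ N.factorization p ∣ Fintype.card F ^ b ∧
      Fintype.card F ^ b ≡ 1 [MOD ordCompl[p] N] := by
  haveI : Fact p.Prime := ⟨hM.1⟩
  obtain ⟨e, -, he⟩ := FiniteField.card F p
  set m := ordCompl[p] N
  have hm : 0 < m := Nat.ordCompl_pos p hN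
  refine ⟨(N.factorization p + 1) * m.totient, ?_, ?_⟩
  · rw [he, ← pow_mul]
    refine pow_dvd_pow p ?_
    have h1 : 1 ≤ m.totient := Nat.totient_pos.2 hm
    have h2 : 1 ≤ (e : ℕ) := e.pos
    calc N.factorization p ≤ 1 * ((N.factorization p + 1) * 1) := by omega
      _ ≤ (e : ℕ) * ((N.factorization p + 1) * m.totient) :=
        Nat.mul_le_mul h2 (Nat.mul_le_mul le_rfl h1)
  · have hc : (Fintype.card F).Coprime m := by
      rw [he]
      exact (Nat.coprime_ordCompl hM.1 hN).pow_left _
    rw [mul_comm, pow_mul]
    simpa using (Nat.ModEq.pow_totient hc).pow (N.factorization p + 1)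

/-- The lifted eigenvalue sum along a representation. -/
theorem isGeneralized_lg [CharP F p] {G : Type v} [Group G] [Fintype G] {V : Type w} [AddCommGroup V]
    [Module F V] [FiniteDimensional F V] (ρ : G →* Module.End F V) :
    IsGeneralizedCharacter G (fun g => lg hM ι (ρ g)) := by
  let b := Module.finBasis F V
  let μ : Module.End F V →* Matrix (Fin (finrank F V)) (Fin (finrank F V)) F :=
    ((LinearMap.toMatrixAlgEquiv b).toAlgHom : _ →* _)
  have hchar : ∀ T, lg hM ι T = lsum hM ((μ T).map ι).charpoly := fun T => by
    rw [Matrix.charpoly_map, lg]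
    show _ = lsum hM ((LinearMap.toMatrix b b T).charpoly.map ι)
    rw [LinearMap.charpoly_toMatrix]
  refine isGeneralizedCharacter_of_elementary (fun g h => ?_) fun E r hr hE => ?_
  · show lg hM ι (ρ (h * g * h⁻¹)) = lg hM ι (ρ g)
    rw [hchar, hchar, map_mul, map_mul, map_mul, map_mul]
    set U : (Matrix (Fin (finrank F V)) (Fin (finrank F V)) F)ˣ := Units.map μ (Units.map ρ (toUnits h)) with hU
    rw [show μ (ρ h) = (U : Matrix _ _ F) from rfl, show μ (ρ h⁻¹) = ((U⁻¹ : _ˣ) : Matrix _ _ F) from rfl,
      Matrix.charpoly_map, Matrix.charpoly_map, Matrix.coe_units_inv, Matrix.charpoly_units_conj]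
  · have := isNilpotent_of_isElementary hr hE
    obtain ⟨bb, hb0, hb1⟩ := exists_adams_exp (F := F) hM (N := Nat.card G) Nat.card_pos.ne'
    let π : E →* G := E.subtype.comp (MonoidHom.mk' (fun x : E => x ^ Fintype.card F ^ bb)
      (BrauerChars.mul_pow_regExp hM.1 Nat.card_pos.ne' (Subgroup.card_subgroup_dvd_card E) hb0 hb1))
    have hS : ¬ p ∣ Fintype.card π.range := by
      intro h
      haveI : Fact p.Prime := ⟨hM.1⟩
      obtain ⟨⟨y, z, hz⟩, hy⟩ := exists_prime_orderOf_dvd_card p h
      have h2 := BrauerChars.regular_pow_regExp hM.1 hb0 (z : G)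
      apply h2
      rw [← orderOf_injective π.range.subtype Subtype.val_injective] at hy
      rw [show (z : G) ^ Fintype.card F ^ bb = y from hz]
      exact hy.symm.dvd
    have hχ := isCharacter_lsum_matrix hM hS
      ((ι.mapMatrix (m := Fin (finrank F V))).toMonoidHom.comp
        (μ.comp (ρ.comp π.range.subtype)))
    refine (congrArg (IsGeneralizedCharacter E) (funext fun x => ?_)).mp
      (isGeneralizedCharacter_comp (isGeneralizedCharacter_of_isCharacter hχ) π.rangeRestrict)
    show lsum hM ((μ (ρ (π x))).map ι).charpoly = lg hM ι (ρ (x : G))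
    rw [hchar, show π x = (x : G) ^ Fintype.card F ^ bb from rfl, map_pow, map_pow, Matrix.charpoly_map,
      Matrix.charpoly_map]
    congr 2
    clear hS hχ hb0 hb1 π
    induction bb with
    | zero => simp
    | succ k ih => rw [pow_succ, pow_mul, FiniteField.Matrix.charpoly_pow_card, ih]

/-- The class function along a representation is a generalized character. -/
theorem isGeneralized_fcl [CharP F p] {G : Type v} [Group G] [Fintype G] :
    ∀ (n : ℕ) (H : Subgroup G) (V : Type w) [AddCommGroup V] [Module F V] [FiniteDimensional F V]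
      [Finite V] (ρ : H →* Module.End F V), finrank F V = n →
      IsGeneralizedCharacter H (fun g => fcl hM ι (ρ g)) := by
  intro n
  induction n using Nat.strong_induction_on with
  | _ n ih =>
    intro H V _ _ _ _ ρ hV
    have := Fintype.ofFinite H
    have := Fintype.ofFinite (Submodule F V)
    let P : H →* (Module.End F V)ˣ := ρ.toHomUnits
    letI act : MulAction H (Submodule F V) :=
      { smul := fun h W => W.map (ρ h)
        one_smul := fun W => by
          show W.map (ρ 1) = W
          rw [map_one, Module.End.one_eq_id, Submodule.map_id]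
        mul_smul := fun a b W => by
          show W.map (ρ (a * b)) = (W.map (ρ b)).map (ρ a)
          rw [map_mul, Module.End.mul_eq_comp, Submodule.map_comp] }
    let e : H → (V ≃ₗ[F] V) := fun h =>
      LinearEquiv.ofLinear (ρ h) (ρ h⁻¹) (by rw [← Module.End.mul_eq_comp, ← map_mul, mul_inv_cancel, map_one]; rfl)
        (by rw [← Module.End.mul_eq_comp, ← map_mul, inv_mul_cancel, map_one]; rfl)
    have hfix : ∀ (g : H) (W : Submodule F V), (∀ x ∈ W, ρ g x ∈ W) ↔ g • W = W := by
      intro g W
      constructor
      · intro h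
        refine Submodule.eq_of_le_of_finrank_eq (Submodule.map_le_iff_le_comap.2 h) ?_
        exact ((Submodule.equivMapOfInjective (ρ g) (e g).injective W).finrank_eq).symm
      · intro h x hx
        rw [← h]; exact ⟨x, hx, rfl⟩
    let φ : H → Submodule F V → ℂ := fun g W => if W = ⊤ then 0 else fres hM ι (ρ g) W
    have heq : ∀ (h g : H) (W : Submodule F V), φ (h * g * h⁻¹) (h • W) = φ g W := by
      intro h g W
      have h1 : (h • W = ⊤) ↔ W = ⊤ := by
        show W.map (e h).toLinearMap = ⊤ ↔ _
        have ht : (⊤ : Submodule F V).map (e h).toLinearMap = ⊤ := by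
          rw [Submodule.map_top]; exact LinearEquiv.range (e h)
        constructor
        · intro hh
          exact Submodule.map_injective_of_injective (e h).injective (hh.trans ht.symm)
        · rintro rfl
          exact ht
      have h2 : ρ (h * g * h⁻¹) = (e h).conj (ρ g) := by
        refine LinearMap.ext fun x => ?_
        rw [map_mul, map_mul, LinearEquiv.conj_apply_apply]
        rfl
      simp only [φ, h1, h2]
      split_ifs
      · rfl
      · exact fres_transport hM ι (e h) (ρ g) W
    have hloc : ∀ W : Submodule F V,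
        IsGeneralizedCharacter (MulAction.stabilizer H W) (fun g => φ (g : H) W) := by
      intro W
      by_cases hW : W = ⊤
      · simp only [φ, hW, if_true]
        exact isGeneralizedCharacter_zero
      set S := (MulAction.stabilizer H W).map H.subtype
      let es : MulAction.stabilizer H W ≃* S :=
        Subgroup.equivMapOfInjective _ _ H.subtype_injective
      have hinv : ∀ g : MulAction.stabilizer H W, ∀ x ∈ W, ρ (g : H) x ∈ W := fun g => (hfix _ W).2 g.2
      let σ : MulAction.stabilizer H W →* Module.End F W :=
        { toFun := fun g => (ρ (g : H)).restrict (hinv g)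
          map_one' := LinearMap.ext fun x => Subtype.ext (by
            show ρ ((1 : MulAction.stabilizer H W) : H) (x : V) = x
            rw [OneMemClass.coe_one, map_one]; rfl)
          map_mul' := fun a b => LinearMap.ext fun x => Subtype.ext (by
            show ρ ((a * b : MulAction.stabilizer H W) : H) (x : V) = ρ (a : H) (ρ (b : H) x)
            rw [Subgroup.coe_mul, map_mul]; rfl) }
      have := ih (finrank F W) (hV ▸ Submodule.finrank_lt hW) S W (σ.comp es.symm.toMonoidHom) rfl
      refine (congrArg (IsGeneralizedCharacter _) (funext fun g => ?_)).mp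
        (isGeneralizedCharacter_comp this es.toMonoidHom)
      show fcl hM ι (σ (es.symm (es g))) = φ (g : H) W
      rw [MulEquiv.symm_apply_apply]
      simp only [φ, hW, if_false, fres, dif_pos (hinv g)]
      rfl
    have hsum := isGeneralized_sum_fixed φ heq hloc _ Finset.univ rfl (fun h x _ => Finset.mem_univ _)
    have hrw : (fun g : H => fcl hM ι (ρ g)) = (fun g : H => lg hM ι (ρ g)) -
        fun g : H => ∑ W : Submodule F V, if g • W = W then φ g W else 0 := by
      funext g
      rw [Pi.sub_apply, eq_sub_iff_add_eq, ← sum_fres hM ι n V (ρ g) hV, ← fres_top hM ι (ρ g),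
        ← Finset.sum_erase_add _ _ (Finset.mem_univ (⊤ : Submodule F V)),
        ← Finset.sum_erase_add _ _ (Finset.mem_univ (⊤ : Submodule F V))]
      simp only [φ, if_true, ite_self, add_zero]
      rw [add_comm]
      congr 1
      refine Finset.sum_congr rfl fun W hW => ?_
      rw [if_neg (Finset.ne_of_mem_erase hW)]
      split_ifs with h
      · rfl
      · rw [fres, dif_neg fun h' => h ((hfix g W).1 h')]
    rw [hrw]
    exact isGeneralizedCharacter_sub (isGeneralized_lg hM ι ρ) hsum

end CfsgLib.Char.GLCusp
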