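import Cfsg.Agent.Lib.Char.GLCusp.Total
import Cfsg.Agent.Lib.Char.GLCusp.Virtual
import Cfsg.Agent.Lib.Char.PowTwist

/-!
# The cuspidal characters of the general linear group
-/

set_option autoImplicit false

open scoped Classical ComplexConjugate MatrixGroups
open Module Polynomial

namespace CfsgLib.Char.GLCusp

open Cfsg CfsgLib.Block

universe u w

variable {p : ℕ} {M : Ideal AlgInt} [M.IsMaximal] (hM : IsPModular p M) {F : Type u} [Field F]
  [Fintype F] (ι : F →+* ResField M)

section Values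

variable {V : Type w} [AddCommGroup V] [Module F V] [Finite V]

theorem fcl_unipotent (hn : 0 < finrank F V) {N : Module.End F V} (hN : IsNilpotent N) :
    fcl hM ι (1 + N) = cval (Fintype.card F) (finrank F V - finrank F (LinearMap.range N)) := by
  have hval : aeval (1 + N) ((X : F[X]) - Polynomial.C 1) = N := by
    rw [map_sub, aeval_X, aeval_C, map_one, add_sub_cancel_left]
  rw [fcl_eq hM ι hn (irreducible_X_sub_C (1 : F)) (monic_X_sub_C 1) (hval.symm ▸ hN), hval,
    natDegree_X_sub_C, pow_one, Nat.div_one, lsum, Polynomial.map_sub, map_X, map_C, map_one,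
    roots_X_sub_C, Multiset.map_singleton, Multiset.sum_singleton, liftRoot_one, one_mul]

theorem cval_ne_zero {Q : ℕ} (hQ : 1 < Q) (k : ℕ) : cval Q k ≠ 0 := by
  rw [cval, Finset.prod_ne_zero_iff]
  intro i hi
  rw [sub_ne_zero]
  exact_mod_cast (Nat.one_lt_pow (by have := (Finset.mem_Ico.1 hi).1; omega) hQ).ne

theorem isUnit_of_root {f : F[X]} (hf : Irreducible f) (hfm : f.Monic) (hX : f ≠ X)
    {s : Module.End F V} (hs : aeval s f = 0) : IsUnit s := by
  have hcop : IsCoprime (X : F[X]) f :=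
    (irreducible_X.coprime_iff_not_dvd).2 fun h => hX
      (eq_of_monic_of_associated hfm monic_X ((irreducible_X.associated_of_dvd hf h).symm))
  obtain ⟨a, b, hab⟩ := hcop
  have hr := congrArg (aeval s) hab
  rw [map_add, map_mul, map_mul, hs, mul_zero, add_zero, map_one, aeval_X] at hr
  have h := ((Commute.all a (X : F[X])).map (aeval s)).eq
  rw [aeval_X] at h
  exact ⟨⟨s, _, by rw [← h, hr], hr⟩, rfl⟩

/-- The value at the powers of a semisimple element of one orbit. -/
theorem fcl_pow_root (hn : 0 < finrank F V) {f : F[X]} (hf : Irreducible f) {x : ResField M}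
    (hx : (f.map ι).IsRoot x) {s : Module.End F V} (hs : aeval s f = 0) {a : ℕ}
    {f' : F[X]} (hf' : Irreducible f') (hfm' : f'.Monic) (hx' : (f'.map ι).IsRoot (x ^ a)) :
    fcl hM ι (s ^ a) = lsum hM (f'.map ι) *
      cval (Fintype.card F ^ f'.natDegree) (finrank F V / f'.natDegree) := by
  letI := ι.toAlgebra
  rw [IsRoot, eval_map] at hx hx'
  have h0 : aeval x (f'.comp (X ^ a)) = 0 := by
    rw [aeval_comp, map_pow, aeval_X]; exact hx'
  obtain ⟨c, hc⟩ := (hf.dvd_iff_aeval_eq_zero (b := x) hx).1 h0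
  have h1 : aeval (s ^ a) f' = 0 := by
    have := congrArg (aeval s) hc
    rwa [aeval_comp, map_pow, aeval_X, map_mul, hs, zero_mul] at this
  rw [fcl_eq hM ι hn hf' hfm' (h1.symm ▸ IsNilpotent.zero), h1, LinearMap.range_zero, finrank_bot,
    Nat.sub_zero]

end Values

variable (n : ℕ)

/-- The standard representation of `GL n F`. -/
noncomputable def stdHom (F : Type u) [Field F] (n : ℕ) : GL (Fin n) F →* Module.End F (Fin n → F) :=
  ((Matrix.toLinAlgEquiv' : Matrix (Fin n) (Fin n) F ≃ₐ[F] _).toAlgHom.toMonoidHom).comp (Units.coeHom _)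

/-- `GL n F` as the units of the endomorphisms. -/
noncomputable def stdEquiv (F : Type u) [Field F] (n : ℕ) :
    GL (Fin n) F ≃* (Module.End F (Fin n → F))ˣ :=
  Units.mapEquiv (Matrix.toLinAlgEquiv' : Matrix (Fin n) (Fin n) F ≃ₐ[F] _).toMulEquiv

theorem coe_stdEquiv (g : GL (Fin n) F) : (stdEquiv F n g : Module.End F (Fin n → F)) = stdHom F n g := rfl

/-- The cuspidal class function. -/
noncomputable def cusp (g : GL (Fin n) F) : ℂ := (-1) ^ (n - 1) * fcl hM ι (stdHom F n g)

theorem isGeneralized_cusp [CharP F p] : IsGeneralizedCharacter (GL (Fin n) F) (cusp hM ι n) := by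
  have h := isGeneralized_fcl hM ι (G := GL (Fin n) F) n ⊤ (Fin n → F)
    ((stdHom F n).comp (⊤ : Subgroup (GL (Fin n) F)).subtype) (Module.finrank_fin_fun F)
  have h1 := isGeneralizedCharacter_comp h (Subgroup.topEquiv (G := GL (Fin n) F)).symm.toMonoidHom
  refine (congrArg (IsGeneralizedCharacter _) (funext fun g => ?_)).mp
    (isGeneralizedCharacter_zsmul h1 ((-1) ^ (n - 1)))
  simp only [cusp, Pi.smul_apply, smul_eq_mul, Int.cast_pow, Int.cast_neg, Int.cast_one]
  rfl

theorem cusp_one (hn : 0 < n) :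
    cusp hM ι n 1 = ∏ i ∈ Finset.Ico 1 n, ((Fintype.card F : ℂ) ^ i - 1) := by
  have h := fcl_unipotent hM ι (V := Fin n → F) (by rwa [Module.finrank_fin_fun]) (IsNilpotent.zero (R := Module.End F (Fin n → F)))
  rw [add_zero, LinearMap.range_zero, finrank_bot, Nat.sub_zero, Module.finrank_fin_fun] at h
  rw [cusp, map_one, h, cval, show n - 1 = (Finset.Ico 1 n).card by rw [Nat.card_Ico],
    ← Finset.prod_const, ← Finset.prod_mul_distrib]
  exact Finset.prod_congr rfl fun i _ => by ring

theorem isIrr_cusp [CharP F p] (hn : 2 ≤ n) : IsIrrCharacter (GL (Fin n) F) (cusp hM ι n) := by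
  refine isIrr_of_norm_one (isGeneralized_cusp hM ι n) ?_ ?_
  · have hp : ¬ p ∣ Fintype.card F ^ n - 1 := by
      intro h
      haveI : Fact p.Prime := ⟨hM.1⟩
      obtain ⟨e, -, he⟩ := FiniteField.card F p
      have h2 : p ∣ Fintype.card F ^ n := by
        rw [he, ← pow_mul]
        exact dvd_pow_self p (Nat.mul_ne_zero e.pos.ne' (by omega))
      have h1 : 1 ≤ Fintype.card F ^ n := Nat.one_le_pow _ _ Fintype.card_pos
      have := Nat.dvd_sub h2 h
      rw [Nat.sub_sub_self h1] at this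
      exact hM.1.not_dvd_one this
    have : Finite (Module.End F (Fin n → F)) := finite_linearMap
    have := Fintype.ofFinite (Module.End F (Fin n → F))ˣ
    have h := norm_fcl hM ι (V := Fin n → F) (by rw [Module.finrank_fin_fun]; exact hp)
      (by rw [Module.finrank_fin_fun]; exact hn)
    have hs : ∑ g : GL (Fin n) F, cusp hM ι n g * conj (cusp hM ι n g) =
        (Nat.card (GL (Fin n) F) : ℂ) := by
      rw [Nat.card_congr (stdEquiv F n).toEquiv, ← h,
        ← Equiv.sum_comp (stdEquiv F n).toEquiv]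
      refine Finset.sum_congr rfl fun g _ => ?_
      show _ = fcl hM ι (stdEquiv F n g : Module.End F (Fin n → F)) *
        conj (fcl hM ι (stdEquiv F n g : Module.End F (Fin n → F)))
      rw [cusp, coe_stdEquiv, map_mul, map_pow, map_neg, map_one, mul_mul_mul_comm, ← mul_pow]
      norm_num
    rw [classInner, hs, inv_mul_cancel₀ (Nat.cast_ne_zero.2 Nat.card_pos.ne')]
  · rw [cusp_one hM ι n (by omega),
      show (∏ i ∈ Finset.Ico 1 n, ((Fintype.card F : ℂ) ^ i - 1)) =
        ((∏ i ∈ Finset.Ico 1 n, ((Fintype.card F : ℝ) ^ i - 1) : ℝ) : ℂ) by push_cast; rfl,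
      Complex.ofReal_re]
    refine Finset.prod_pos fun i hi => sub_pos.2 (one_lt_pow₀ ?_ ?_)
    · exact_mod_cast Fintype.one_lt_card
    · have := (Finset.mem_Ico.1 hi).1; omega

/-- The subspace of the first `m` coordinates. -/
def headSpace (F : Type u) [Field F] (n m : ℕ) : Submodule F (Fin n → F) where
  carrier := {v | ∀ i : Fin n, m ≤ i.val → v i = 0}
  add_mem' := fun ha hb i hi => by rw [Pi.add_apply, ha i hi, hb i hi, add_zero]
  zero_mem' := fun _ _ => rfl
  smul_mem' := fun c _ hv i hi => by rw [Pi.smul_apply, hv i hi, smul_zero]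

theorem mem_block_iff {m : ℕ} (g : GL (Fin n) F) :
    (∀ i j : Fin n, ¬ (i.val < m ∧ m ≤ j.val) →
      (g : Matrix (Fin n) (Fin n) F) i j = (1 : Matrix (Fin n) (Fin n) F) i j) ↔
    LinearMap.range (stdHom F n g - 1) ≤ headSpace F n m ∧
      ∀ x ∈ headSpace F n m, (stdHom F n g - 1) x = 0 := by
  have e : stdHom F n g - 1 = Matrix.toLin' ((g : Matrix (Fin n) (Fin n) F) - 1) := by
    rw [map_sub, Matrix.toLin'_one]; rfl
  rw [e]
  constructor
  · intro h
    have hz : ∀ i j : Fin n, ¬ (i.val < m ∧ m ≤ j.val) → ((g : Matrix (Fin n) (Fin n) F) - 1) i j = 0 :=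
      fun i j hij => by rw [Matrix.sub_apply, h i j hij, sub_self]
    refine ⟨?_, fun x hx => ?_⟩
    · rintro _ ⟨x, rfl⟩ i hi
      simp only [Matrix.toLin'_apply, Matrix.mulVec, dotProduct]
      exact Finset.sum_eq_zero fun j _ => by rw [hz i j (fun h => by omega), zero_mul]
    · funext i
      simp only [Matrix.toLin'_apply, Matrix.mulVec, dotProduct, Pi.zero_apply]
      refine Finset.sum_eq_zero fun j _ => ?_
      by_cases hj : m ≤ j.val
      · rw [hx j hj, mul_zero]
      · rw [hz i j (fun h => hj h.2), zero_mul]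
  · rintro ⟨h1, h2⟩ i j hij
    rw [← sub_eq_zero, ← Matrix.sub_apply]
    have hv : ((g : Matrix (Fin n) (Fin n) F) - 1) i j =
        Matrix.toLin' ((g : Matrix (Fin n) (Fin n) F) - 1) (Pi.single j 1) i := by
      simp [Matrix.toLin'_apply, Matrix.one_apply, Pi.single_apply]
    rw [hv]
    by_cases hj : m ≤ j.val
    · exact h1 ⟨_, rfl⟩ i (not_lt.1 fun hi => hij ⟨hi, hj⟩)
    · rw [h2 (Pi.single j 1) (fun k hk => Pi.single_eq_of_ne (fun e : k = j => hj (e ▸ hk)) 1)]
      rfl

/-- Cuspidality of the power twists. -/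
theorem cusp_block_sum {a : ℕ} (ha : (a : F) ≠ 0) {m : ℕ} (hm : 0 < m) (hmn : m < n) :
    (∑ g : GL (Fin n) F,
      if (∀ i j : Fin n, ¬ (i.val < m ∧ m ≤ j.val) →
        (g : Matrix (Fin n) (Fin n) F) i j = (1 : Matrix (Fin n) (Fin n) F) i j)
      then cusp hM ι n (g ^ a) else 0) = 0 := by
  set W := headSpace F n m
  have hW1 : Nontrivial W := by
    refine Submodule.nontrivial_iff_ne_bot.2 fun h => ?_
    have : (Pi.single (⟨0, by omega⟩ : Fin n) (1 : F)) ∈ W := fun i hi =>
      Pi.single_eq_of_ne (fun e => by rw [e] at hi; exact absurd hi (by simp; omega)) 1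
    rw [h, Submodule.mem_bot] at this
    exact one_ne_zero (α := F) (by simpa using congrFun this ⟨0, by omega⟩)
  have hW2 : finrank F W < n := by
    conv_rhs => rw [← Module.finrank_fin_fun F (n := n)]
    refine Submodule.finrank_lt fun h => ?_
    have : (Pi.single (⟨m, hmn⟩ : Fin n) (1 : F)) ∈ W := h ▸ Submodule.mem_top
    exact one_ne_zero (α := F) (by simpa using this ⟨m, hmn⟩ le_rfl)
  have : Finite ((Fin n → F) →ₗ[F] W) := finite_linearMap
  have := Fintype.ofFinite ((Fin n → F) →ₗ[F] W)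
  have hsq : ∀ f : (Fin n → F) →ₗ[F] W, f ∘ₗ W.subtype = 0 →
      (W.subtype ∘ₗ f : Module.End F (Fin n → F)) * (W.subtype ∘ₗ f : Module.End F (Fin n → F)) = 0 := by
    intro f hf
    refine LinearMap.ext fun x => ?_
    show ((f (f x : Fin n → F)) : Fin n → F) = 0
    rw [show f (f x : Fin n → F) = (f ∘ₗ W.subtype) (f x) from rfl, hf]
    rfl
  let mk : ∀ f : (Fin n → F) →ₗ[F] W, f ∘ₗ W.subtype = 0 → (Module.End F (Fin n → F))ˣ := fun f hf =>
    ⟨1 + W.subtype ∘ₗ f, 1 - W.subtype ∘ₗ f, by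
      rw [add_mul, one_mul, mul_sub, mul_one, hsq f hf, sub_zero, sub_add_cancel],
      by rw [sub_mul, one_mul, mul_add, mul_one, hsq f hf, add_zero, add_sub_cancel_right]⟩
  have key : ∀ f : (Fin n → F) →ₗ[F] W, ∀ hf : f ∘ₗ W.subtype = 0,
      fcl hM ι ((1 + W.subtype ∘ₗ f : Module.End F (Fin n → F)) ^ a) =
        cval (Nat.card F) (n - finrank F (LinearMap.range f)) := by
    intro f hf
    set N : Module.End F (Fin n → F) := W.subtype ∘ₗ f with hN
    have hN2 : N * N = 0 := hsq f hf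
    have hpow : ∀ k : ℕ, (1 + N) ^ k = 1 + (k : F) • N := by
      intro k
      induction k with
      | zero => simp
      | succ k ih =>
        rw [pow_succ, ih, add_mul, one_mul, mul_add, mul_one, smul_mul_assoc, hN2, smul_zero, add_zero,
          Nat.cast_succ, add_smul, one_smul]
        abel
    rw [hpow, fcl_unipotent hM ι (by rw [Module.finrank_fin_fun]; omega)
      ⟨2, by rw [sq, smul_mul_smul_comm, hN2, smul_zero]⟩, Module.finrank_fin_fun,
      LinearMap.range_smul _ _ ha, hN, LinearMap.range_comp, Nat.card_eq_fintype_card,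
      ← (Submodule.equivMapOfInjective W.subtype W.injective_subtype _).finrank_eq]
  have hsum := sum_extensions_eq_zero (K := F) (W := W) (T := 0) IsNilpotent.zero n (Fin n → F)
    (Module.finrank_fin_fun F) hW2 W.subtype W.injective_subtype
  rw [← Finset.sum_filter]
  refine Eq.trans ?_ (mul_eq_zero_of_right ((-1 : ℂ) ^ (n - 1)) hsum)
  rw [Finset.mul_sum]
  simp only [mul_ite, mul_zero]
  refine Eq.trans ?_ (Finset.sum_filter (s := Finset.univ) (p := fun f : (Fin n → F) →ₗ[F] W => f ∘ₗ W.subtype = 0)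
    (fun f => (-1 : ℂ) ^ (n - 1) * cval (Nat.card F) (n - finrank F (LinearMap.range f))) |>.trans
      (Finset.sum_congr rfl fun f _ => by congr 1))
  refine Finset.sum_bij' (fun g hg => (stdHom F n g - 1).codRestrict W fun x =>
      ((mem_block_iff n g).1 (Finset.mem_filter.1 hg).2).1 (LinearMap.mem_range_self _ x))
    (fun f hf => (stdEquiv F n).symm (mk f (Finset.mem_filter.1 hf).2)) ?_ ?_ ?_ ?_ ?_
  · intro g hg
    refine Finset.mem_filter.2 ⟨Finset.mem_univ _, LinearMap.ext fun x => Subtype.ext ?_⟩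
    exact ((mem_block_iff n g).1 (Finset.mem_filter.1 hg).2).2 x x.2
  · intro f hf
    refine Finset.mem_filter.2 ⟨Finset.mem_univ _, (mem_block_iff n _).2 ?_⟩
    rw [← coe_stdEquiv, MulEquiv.apply_symm_apply]
    show LinearMap.range (1 + W.subtype ∘ₗ f - 1) ≤ W ∧ ∀ x ∈ W, (1 + W.subtype ∘ₗ f - 1) x = 0
    rw [add_sub_cancel_left]
    refine ⟨by rw [LinearMap.range_comp]; exact Submodule.map_subtype_le _ _, fun x hx => ?_⟩
    have := LinearMap.congr_fun (Finset.mem_filter.1 hf).2 ⟨x, hx⟩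
    exact congrArg Subtype.val this
  · intro g hg
    apply (stdEquiv F n).injective
    rw [MulEquiv.apply_symm_apply]
    refine Units.ext ?_
    show 1 + (stdHom F n g - 1) = stdHom F n g
    rw [add_sub_cancel]
  · intro f hf
    refine LinearMap.ext fun x => Subtype.ext ?_
    show (stdHom F n ((stdEquiv F n).symm _) - 1) x = _
    rw [← coe_stdEquiv, MulEquiv.apply_symm_apply]
    show (1 + W.subtype ∘ₗ f - 1) x = _
    rw [add_sub_cancel_left]; rfl
  · intro g hg
    have hN0 : ((stdHom F n g - 1).codRestrict W fun x =>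
        ((mem_block_iff n g).1 (Finset.mem_filter.1 hg).2).1 (LinearMap.mem_range_self _ x)) ∘ₗ W.subtype = 0 :=
      LinearMap.ext fun x => Subtype.ext (((mem_block_iff n g).1 (Finset.mem_filter.1 hg).2).2 x x.2)
    rw [cusp, map_pow, ← key _ hN0]
    congr 3
    show stdHom F n g = 1 + (stdHom F n g - 1)
    rw [add_sub_cancel]

/-- Two twists agree only along a Frobenius orbit. -/
theorem cusp_pow_inj [CharP F p] (hn : 2 ≤ n) {a b : ℕ}
    (ha : a.Coprime (Fintype.card F ^ n - 1)) (hb : b.Coprime (Fintype.card F ^ n - 1))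
    (h : ∀ g : GL (Fin n) F, cusp hM ι n (g ^ a) = cusp hM ι n (g ^ b)) :
    ∃ i < n, (Fintype.card F ^ i * a) % (Fintype.card F ^ n - 1) = b % (Fintype.card F ^ n - 1) := by
  set q := Fintype.card F
  have hq : 2 ≤ q := Fintype.one_lt_card
  set N := q ^ n - 1
  have hN : 1 < N := by
    have := pow_lt_pow_sub_one hq hn (show 1 < n by omega)
    rw [pow_one] at this
    omega
  have hp : ¬ p ∣ N := by
    intro h
    haveI : Fact p.Prime := ⟨hM.1⟩
    obtain ⟨e, -, he⟩ := FiniteField.card F p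
    have h2 : p ∣ q ^ n := by
      show p ∣ Fintype.card F ^ n
      rw [he, ← pow_mul]
      exact dvd_pow_self p (Nat.mul_ne_zero e.pos.ne' (by omega))
    have := Nat.dvd_sub h2 h
    rw [Nat.sub_sub_self (Nat.one_le_pow _ _ (by omega))] at this
    exact hM.1.not_dvd_one this
  obtain ⟨ζ, hζ, hz⟩ := exists_res_primitive hM hp
  have key : ∀ x : ResField M, x ^ N = 1 →
      orbitSum hM (F := F) n (x ^ a) = orbitSum hM (F := F) n (x ^ b) := by
    intro x hx
    obtain ⟨f, hf, hfm, hfx, hfX, hfd⟩ := exists_minpoly ι (n := n) (by omega) hx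
    have hdeg : ∀ c : ℕ, c.Coprime N → ∃ f' : F[X], Irreducible f' ∧ f'.Monic ∧
        (f'.map ι).IsRoot (x ^ c) ∧ f'.natDegree = f.natDegree := by
      intro c hc
      obtain ⟨f', hf', hfm', hfx', -, -⟩ := exists_minpoly ι (n := n) (x := x ^ c) (by omega)
        (by rw [← pow_mul, mul_comm, pow_mul, hx, one_pow])
      refine ⟨f', hf', hfm', hfx', ?_⟩
      letI := ι.toAlgebra
      have e1 := (roots_orbit ι hf hfm hfx).1
      have e2 := (roots_orbit ι hf' hfm' hfx').1
      rw [IsRoot, eval_map] at hfx hfx'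
      refine Nat.dvd_antisymm ?_ ?_
      · refine hf'.natDegree_dvd_of_dvd_X_pow_card_pow_sub_X ((hf'.dvd_iff_aeval_eq_zero (b := x ^ c) hfx').1 ?_)
        rw [map_sub, map_pow, aeval_X, Nat.card_eq_fintype_card, ← pow_mul, mul_comm, pow_mul, e1, sub_self]
      · refine hf.natDegree_dvd_of_dvd_X_pow_card_pow_sub_X ((hf.dvd_iff_aeval_eq_zero (b := x) hfx).1 ?_)
        obtain ⟨c', -, hc'⟩ := Nat.exists_mul_mod_eq_one_of_coprime hc hN
        have hinv : x = (x ^ c) ^ c' := by
          rw [← pow_mul, pow_eq_pow_mod _ hx, hc', pow_one]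
        rw [map_sub, map_pow, aeval_X, Nat.card_eq_fintype_card, sub_eq_zero]
        conv_lhs => rw [hinv, ← pow_mul, mul_comm, pow_mul, e2]
        exact hinv.symm
    obtain ⟨fa, hfa, hfam, hfax, hda⟩ := hdeg a ha
    obtain ⟨fb, hfb, hfbm, hfbx, hdb⟩ := hdeg b hb
    obtain ⟨s, hs⟩ := exists_end_root (V := Fin n → F) hf hfm (by rw [Module.finrank_fin_fun]; exact hfd)
    let g : GL (Fin n) F := (stdEquiv F n).symm (isUnit_of_root hf hfm hfX hs).unit
    have hg : stdHom F n g = s := by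
      rw [← coe_stdEquiv, MulEquiv.apply_symm_apply]; rfl
    have h' := h g
    rw [cusp, cusp, map_pow, map_pow, hg] at h'
    have h2 := mul_left_cancel₀ (pow_ne_zero _ (neg_ne_zero.2 one_ne_zero)) h'
    rw [fcl_pow_root hM ι (by rw [Module.finrank_fin_fun]; omega) hf hfx hs hfa hfam hfax,
      fcl_pow_root hM ι (by rw [Module.finrank_fin_fun]; omega) hf hfx hs hfb hfbm hfbx, hda, hdb] at h2
    have h3 := mul_right_cancel₀ (cval_ne_zero (Nat.one_lt_pow hf.natDegree_pos.ne' hq) _) h2
    obtain ⟨m, hm⟩ := hfd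
    have hma : m * fa.natDegree = n := by rw [hda, mul_comm]; exact hm.symm
    have hmb : m * fb.natDegree = n := by rw [hdb, mul_comm]; exact hm.symm
    conv_lhs => rw [← hma, orbitSum_eq hM ι hfa hfam hfax, h3]
    conv_rhs => rw [← hmb, orbitSum_eq hM ι hfb hfbm hfbx]
  by_contra hcon
  push Not at hcon
  set z := liftRoot hM ζ
  have hsum : ∀ c : ℕ, ∑ j ∈ Finset.range N,
      orbitSum hM (F := F) n ((ζ ^ j) ^ c) * conj ((z ^ j) ^ b) =
      ∑ i ∈ Finset.range n, if (q ^ i * c) % N = b % N then (N : ℂ) else 0 := by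
    intro c
    simp only [orbitSum, liftRoot_pow, Finset.sum_mul]
    rw [Finset.sum_comm]
    refine Finset.sum_congr rfl fun i _ => ?_
    rw [← sum_corr (z := z) (by omega) hz (q ^ i * c) b]
    refine Finset.sum_congr rfl fun j _ => ?_
    rw [← pow_mul, mul_comm c]
  have e := hsum a
  rw [Finset.sum_congr rfl (fun j _ => by
    rw [key (ζ ^ j) (by rw [← pow_mul, mul_comm, pow_mul, hζ.pow_eq_one, one_pow])]), hsum b,
    Finset.sum_eq_zero (s := Finset.range n) (f := fun i => if (q ^ i * a) % N = b % N then (N : ℂ) else 0)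
      (fun i hi => if_neg (hcon i (Finset.mem_range.1 hi)))] at e
  rw [Finset.sum_ite, Finset.sum_const_zero, add_zero,
    Finset.sum_const, nsmul_eq_mul, mul_eq_zero, Nat.cast_eq_zero, Finset.card_eq_zero,
    Nat.cast_eq_zero] at e
  rcases e with e | e
  · have : 0 ∈ (Finset.range n).filter fun i => (q ^ i * b) % N = b % N :=
      Finset.mem_filter.2 ⟨Finset.mem_range.2 (by omega), by rw [pow_zero, one_mul]⟩
    rw [e] at this
    exact absurd this (Finset.notMem_empty _)
  · omega

set_option synthInstance.maxHeartbeats 200000 in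
/-- The lower bound for the number of cuspidal characters. -/
theorem card_cuspidal_ge (F : Type u) [Field F] [Fintype F] (n : ℕ) (hn : 2 ≤ n) :
    Nat.totient (Fintype.card F ^ n - 1) / n ≤
      Nat.card {χ : Cfsg.IrrCharacter (GL (Fin n) F) //
        (χ : GL (Fin n) F → ℂ) 1 = ∏ i ∈ Finset.Ico 1 n, ((Fintype.card F : ℂ) ^ i - 1) ∧
        ∀ m : ℕ, 0 < m → m < n →
          (∑ g : GL (Fin n) F,
            if (∀ i j : Fin n, ¬ (i.val < m ∧ m ≤ j.val) →
              (g : Matrix (Fin n) (Fin n) F) i j = (1 : Matrix (Fin n) (Fin n) F) i j)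
            then (χ : GL (Fin n) F → ℂ) g else 0) = 0} := by
  obtain ⟨p, hpF⟩ := CharP.exists F
  haveI : Fact p.Prime := ⟨CharP.char_is_prime F p⟩
  obtain ⟨M, hM⟩ := exists_pModular (Fact.out : p.Prime)
  haveI : M.IsMaximal := hM.2.1
  haveI := charP_resField hM
  haveI : IsAlgClosed (ResField M) := isAlgClosed_resField
  letI : Algebra (ZMod p) F := ZMod.algebra F p
  letI : Algebra (ZMod p) (ResField M) := ZMod.algebra _ p
  let ι : F →+* ResField M := (IsAlgClosed.lift (R := ZMod p) (S := F) (M := ResField M)).toRingHom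
  set q := Fintype.card F
  have hq : 2 ≤ q := Fintype.one_lt_card
  set N := q ^ n - 1
  have hN : 1 < N := by
    have := pow_lt_pow_sub_one hq hn (show 1 < n by omega)
    rw [pow_one] at this
    omega
  haveI : NeZero N := ⟨by omega⟩
  set L := N * (Nat.card (GL (Fin n) F) * p)
  haveI : NeZero L := ⟨Nat.mul_ne_zero (by omega) (Nat.mul_ne_zero Nat.card_pos.ne' (Fact.out : p.Prime).ne_zero)⟩
  choose sec hsec using ZMod.unitsMap_surjective (Dvd.intro _ rfl : N ∣ L)
  let ex : (ZMod N)ˣ → ℕ := fun u => ((sec u : (ZMod L)ˣ) : ZMod L).val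
  have hex : ∀ u, (ex u).Coprime N ∧ (Nat.card (GL (Fin n) F)).Coprime (ex u) ∧ (ex u : F) ≠ 0 ∧
      ((ex u : ℕ) : ZMod N) = (u : ZMod N) := by
    intro u
    have hc : (ex u).Coprime L := ZMod.val_coe_unit_coprime (sec u)
    refine ⟨hc.coprime_mul_right_right, (hc.coprime_mul_left_right.coprime_mul_right_right).symm, ?_, ?_⟩
    · intro h
      rw [CharP.cast_eq_zero_iff F p] at h
      have := (Nat.Coprime.coprime_dvd_left h hc.coprime_mul_left_right.coprime_mul_left_right)
      exact (Fact.out : p.Prime).one_lt.ne' (Nat.coprime_self p |>.1 this)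
    · have h := congrArg Units.val (hsec u)
      rw [← h, ZMod.unitsMap_val]
      exact (ZMod.natCast_val _)
  let χ₀ : IrrCharacter (GL (Fin n) F) := ⟨_, isIrr_cusp hM ι n hn⟩
  let Φ : (ZMod N)ˣ → {χ : Cfsg.IrrCharacter (GL (Fin n) F) //
        (χ : GL (Fin n) F → ℂ) 1 = ∏ i ∈ Finset.Ico 1 n, ((Fintype.card F : ℂ) ^ i - 1) ∧
        ∀ m : ℕ, 0 < m → m < n →
          (∑ g : GL (Fin n) F,
            if (∀ i j : Fin n, ¬ (i.val < m ∧ m ≤ j.val) →
              (g : Matrix (Fin n) (Fin n) F) i j = (1 : Matrix (Fin n) (Fin n) F) i j)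
            then (χ : GL (Fin n) F → ℂ) g else 0) = 0} := fun u =>
    ⟨⟨_, isIrrCharacter_powMap (hex u).2.1 χ₀⟩, by
      show cusp hM ι n (1 ^ ex u) = _
      rw [one_pow, cusp_one hM ι n (by omega)],
      fun m hm hmn => cusp_block_sum hM ι n (hex u).2.2.1 hm hmn⟩
  have := Fintype.ofFinite {χ : Cfsg.IrrCharacter (GL (Fin n) F) //
        (χ : GL (Fin n) F → ℂ) 1 = ∏ i ∈ Finset.Ico 1 n, ((Fintype.card F : ℂ) ^ i - 1) ∧
        ∀ m : ℕ, 0 < m → m < n →
          (∑ g : GL (Fin n) F,
            if (∀ i j : Fin n, ¬ (i.val < m ∧ m ≤ j.val) →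
              (g : Matrix (Fin n) (Fin n) F) i j = (1 : Matrix (Fin n) (Fin n) F) i j)
            then (χ : GL (Fin n) F → ℂ) g else 0) = 0}
  rw [Nat.card_eq_fintype_card, ← ZMod.card_units_eq_totient]
  refine Nat.div_le_of_le_mul ?_
  have hfib : ∀ c ∈ Finset.univ.image Φ, (Finset.univ.filter fun u => Φ u = c).card ≤ n := by
    intro c hc
    obtain ⟨u₀, -, rfl⟩ := Finset.mem_image.1 hc
    refine le_trans (Finset.card_le_card (t := (Finset.range n).image fun i =>
      if h : IsUnit (((q : ZMod N)) ^ i * (u₀ : ZMod N)) then h.unit else u₀) fun u hu => ?_)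
      (le_trans Finset.card_image_le (by rw [Finset.card_range]))
    obtain ⟨i, hi, he⟩ := cusp_pow_inj hM ι n hn (hex u₀).1 (hex u).1 fun g =>
      congrFun (congrArg (fun c => ((c.1 : IrrCharacter (GL (Fin n) F)) : GL (Fin n) F → ℂ))
        (Finset.mem_filter.1 hu).2.symm) g
    have he' : ((q : ZMod N)) ^ i * (u₀ : ZMod N) = (u : ZMod N) := by
      rw [← (hex u₀).2.2.2, ← (hex u).2.2.2, ← Nat.cast_pow, ← Nat.cast_mul,
        ZMod.natCast_eq_natCast_iff']
      exact he
    refine Finset.mem_image.2 ⟨i, Finset.mem_range.2 hi, ?_⟩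
    have hu' : IsUnit (((q : ZMod N)) ^ i * (u₀ : ZMod N)) := he'.symm ▸ u.isUnit
    rw [dif_pos hu']
    exact Units.ext he'
  calc Fintype.card (ZMod N)ˣ ≤ n * (Finset.univ.image Φ).card := by
        rw [← Finset.card_univ]
        exact Finset.card_le_mul_card_image _ n hfib
    _ ≤ _ := Nat.mul_le_mul_left n (Finset.card_le_univ _)

end CfsgLib.Char.GLCusp
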