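import Cfsg.Agent.Lib.Char.GLCusp.Subspaces

/-!
# Sums over nilpotent endomorphisms
-/

set_option autoImplicit false

open scoped Classical
open Module Polynomial

namespace CfsgLib.Char.GLCusp

universe v w w'

variable {K : Type v} [Field K] [Finite K] {V : Type w} [AddCommGroup V] [Module K V] [Finite V]

theorem finite_linearMap {A : Type*} {B : Type*} [AddCommGroup A] [Module K A] [Finite A] [AddCommGroup B]
    [Module K B] [Finite B] : Finite (A →ₗ[K] B) := DFunLike.finite _

theorem sum_between [Fintype (Submodule K V)] (X C : Submodule K V) :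
    ∑ W : Submodule K V, (if X ≤ W ∧ W ≤ C then mu (Nat.card K) (finrank K W - finrank K X) else 0) =
      if X = C then 1 else 0 := by
  by_cases hXC : X ≤ C
  · have := Fintype.ofFinite (Submodule K C)
    have : Finite (C ⧸ X.comap C.subtype) := Quotient.finite _
    have := Fintype.ofFinite (Submodule K (C ⧸ X.comap C.subtype))
    rw [← Finset.sum_subset (Finset.subset_univ
      (Finset.univ.map ⟨fun B : Submodule K C => B.map C.subtype,
        Submodule.map_injective_of_injective C.injective_subtype⟩))
      (fun W _ hW => if_neg fun h => hW (Finset.mem_map.2 ⟨W.comap C.subtype, Finset.mem_univ _,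
          by simpa [Submodule.map_comap_subtype] using h.2⟩)), Finset.sum_map]
    have e : ∀ B : Submodule K C, (X ≤ B.map C.subtype ↔ X.comap C.subtype ≤ B) := by
      intro B
      constructor
      · intro h
        have := Submodule.comap_mono (f := C.subtype) h
        rwa [Submodule.comap_map_eq_of_injective C.injective_subtype] at this
      · intro h
        have := Submodule.map_mono (f := C.subtype) h
        rwa [Submodule.map_comap_subtype, inf_eq_right.2 hXC] at this
    have ex : finrank K (X.comap C.subtype) = finrank K X :=
      (Submodule.comapSubtypeEquivOfLe hXC).finrank_eq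
    calc _ = ∑ B : Submodule K C, (if X.comap C.subtype ≤ B then
          mu (Nat.card K) (finrank K B - finrank K X) else 0) := Finset.sum_congr rfl fun B _ => by
          simp only [Function.Embedding.coeFn_mk, Submodule.map_subtype_le, and_true, e]
          rw [(Submodule.equivMapOfInjective C.subtype C.injective_subtype B).finrank_eq]
      _ = ∑ A : Submodule K (C ⧸ X.comap C.subtype), mu (Nat.card K) (finrank K A) := by
          rw [sum_ge (X.comap C.subtype) fun w => mu (Nat.card K) (w - finrank K X)]
          exact Finset.sum_congr rfl fun A _ => by rw [ex, Nat.add_sub_cancel]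
      _ = _ := by
          rw [sum_mu_sup]
          refine if_congr ?_ rfl rfl
          have := Submodule.finrank_quotient_add_finrank (X.comap C.subtype)
          constructor
          · intro h
            exact Submodule.eq_of_le_of_finrank_eq hXC (by omega)
          · intro h
            rw [h] at ex this ⊢
            omega
  · rw [if_neg fun h => hXC h.le]
    exact Finset.sum_eq_zero fun W _ => if_neg fun h => hXC (h.1.trans h.2)

theorem map_ne_self_of_nilpotent {N : Module.End K V} (hN : IsNilpotent N) {W : Submodule K V}
    (hW : W ≠ ⊥) : W.map N ≠ W := by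
  obtain ⟨t, ht⟩ := hN
  intro h
  apply hW
  have : ∀ j, W.map (N ^ j) = W := by
    intro j
    induction j with
    | zero => simp [Module.End.one_eq_id]
    | succ j ih => rw [pow_succ, Module.End.mul_eq_comp, Submodule.map_comp, h, ih]
  rw [← this t, ht, Submodule.map_zero]

theorem eq_top_of_comap_eq {N : Module.End K V} (hN : IsNilpotent N) {X : Submodule K V}
    (h : X.comap N = X) : X = ⊤ := by
  obtain ⟨t, ht⟩ := hN
  have : ∀ j, X.comap (N ^ j) = X := by
    intro j
    induction j with
    | zero => simp [Module.End.one_eq_id]
    | succ j ih => rw [pow_succ', Module.End.mul_eq_comp, Submodule.comap_comp, h, ih]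
  rw [← this t, ht, Submodule.comap_zero]

/-- The alternating expansion of `cval` on an invariant subspace. -/
theorem cval_restrict [Fintype (Submodule K V)] {N : Module.End K V} (hN : IsNilpotent N)
    (W : Submodule K V) (hW : W.map N ≤ W) :
    (if W = ⊥ then 0 else cval (Nat.card K) (finrank K W - finrank K (W.map N))) =
      ∑ X : Submodule K V, (if W.map N ≤ X ∧ X ≤ W then
        mu (Nat.card K) (finrank K W - finrank K X) * (finrank K X : ℂ) else 0) := by
  have := Fintype.ofFinite (Submodule K W)
  rw [← Finset.sum_subset (Finset.subset_univ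
    (Finset.univ.map ⟨fun B : Submodule K W => B.map W.subtype,
      Submodule.map_injective_of_injective W.injective_subtype⟩))
    (fun X _ hX => if_neg fun h => hX (Finset.mem_map.2 ⟨X.comap W.subtype, Finset.mem_univ _,
        by simpa [Submodule.map_comap_subtype] using h.2⟩)), Finset.sum_map]
  have e : ∀ B : Submodule K W, (W.map N ≤ B.map W.subtype ↔ (W.map N).comap W.subtype ≤ B) := by
    intro B
    constructor
    · intro h
      have := Submodule.comap_mono (f := W.subtype) h
      rwa [Submodule.comap_map_eq_of_injective W.injective_subtype] at this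
    · intro h
      have := Submodule.map_mono (f := W.subtype) h
      rwa [Submodule.map_comap_subtype, inf_eq_right.2 hW] at this
  have er : finrank K ((W.map N).comap W.subtype) = finrank K (W.map N) :=
    (Submodule.comapSubtypeEquivOfLe hW).finrank_eq
  simp only [Function.Embedding.coeFn_mk, Submodule.map_subtype_le, and_true, e,
    ← fun B : Submodule K W =>
      (Submodule.equivMapOfInjective W.subtype W.injective_subtype B).finrank_eq]
  split_ifs with h0
  · symm
    refine Finset.sum_eq_zero fun B _ => ?_
    have : finrank K B = 0 := by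
      have := Submodule.finrank_le B
      have h1 : finrank K W = 0 := by subst h0; simp
      omega
    simp [this]
  · rw [← er]
    refine cval_eq_sum _ fun htop => map_ne_self_of_nilpotent hN h0 (le_antisymm hW ?_)
    exact Submodule.comap_subtype_eq_top.1 htop

/-- The invariant subspaces of a nilpotent map. -/
theorem sum_invariant_cval [Fintype (Submodule K V)] {N : Module.End K V} (hN : IsNilpotent N) :
    ∑ W : Submodule K V, (if W.map N ≤ W ∧ W ≠ ⊥ then
      cval (Nat.card K) (finrank K W - finrank K (W.map N)) else 0) = (finrank K V : ℂ) := by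
  calc _ = ∑ W : Submodule K V, ∑ X : Submodule K V, (if W.map N ≤ X ∧ X ≤ W then
        mu (Nat.card K) (finrank K W - finrank K X) * (finrank K X : ℂ) else 0) := by
        refine Finset.sum_congr rfl fun W _ => ?_
        by_cases hW : W.map N ≤ W
        · rw [← cval_restrict hN W hW]
          split_ifs <;> simp_all
        · rw [if_neg fun h => hW h.1, eq_comm]
          exact Finset.sum_eq_zero fun X _ => if_neg fun h => hW (h.1.trans h.2)
    _ = ∑ X : Submodule K V, (finrank K X : ℂ) * ∑ W : Submodule K V,
          (if X ≤ W ∧ W ≤ X.comap N then mu (Nat.card K) (finrank K W - finrank K X) else 0) := by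
        rw [Finset.sum_comm]
        refine Finset.sum_congr rfl fun X _ => ?_
        rw [Finset.mul_sum]
        refine Finset.sum_congr rfl fun W _ => ?_
        simp only [← Submodule.map_le_iff_le_comap, and_comm, mul_ite, mul_zero, mul_comm]
    _ = _ := by
        simp only [sum_between, mul_ite, mul_one, mul_zero]
        rw [Finset.sum_eq_single ⊤ (fun X _ hX => if_neg fun h => hX (eq_top_of_comap_eq hN h.symm))
          (fun h => absurd (Finset.mem_univ _) h), if_pos (Submodule.comap_top N).symm, finrank_top]

/-- The vanishing of the sums over the extensions of a nilpotent map. -/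
theorem sum_extensions_eq_zero {W : Type w'} [AddCommGroup W] [Module K W] [Finite W] [Nontrivial W]
    {T : Module.End K W} (hT : IsNilpotent T) :
    ∀ (m : ℕ) (V : Type w) [AddCommGroup V] [Module K V] [Finite V] [Fintype (V →ₗ[K] W)],
      finrank K V = m → finrank K W < m → ∀ j : W →ₗ[K] V, Function.Injective j →
      ∑ f : V →ₗ[K] W, (if f ∘ₗ j = T then cval (Nat.card K) (m - finrank K (LinearMap.range f))
        else 0) = 0 := by
  intro m
  induction m with
  | zero => intro V _ _ _ _ _ h; exact absurd h (Nat.not_lt_zero _)
  | succ n ih =>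
    intro V _ _ _ _ hV hlt j hj
    obtain ⟨v, hv⟩ : ∃ v : V, v ∉ LinearMap.range j := by
      refine not_forall.1 fun h => ?_
      have : LinearMap.range j = ⊤ := Submodule.eq_top_iff'.2 h
      have h2 := LinearMap.finrank_range_of_inj hj
      rw [this, finrank_top] at h2
      omega
    obtain ⟨H0, hH0⟩ := Submodule.exists_isCompl (K ∙ (LinearMap.range j).mkQ v)
    set H := H0.comap (LinearMap.range j).mkQ with hHdef
    have hv0 : (LinearMap.range j).mkQ v ≠ 0 := by
      simpa [Submodule.Quotient.mk_eq_zero] using hv
    have hc : IsCompl H (K ∙ v) := by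
      constructor
      · rw [Submodule.disjoint_def]
        intro x hx hxv
        obtain ⟨a, rfl⟩ := Submodule.mem_span_singleton.1 hxv
        have h1 : a • (LinearMap.range j).mkQ v ∈ H0 := by rw [← map_smul]; exact hx
        have h2 := Submodule.disjoint_def.1 hH0.disjoint _
          (Submodule.smul_mem _ a (Submodule.mem_span_singleton_self _)) h1
        rcases smul_eq_zero.1 h2 with h | h
        · simp [h]
        · exact absurd h hv0
      · rw [codisjoint_iff, eq_top_iff]
        intro x _
        obtain ⟨y, hy, z, hz, hyz⟩ := Submodule.mem_sup.1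
          (hH0.codisjoint.eq_top.symm ▸ Submodule.mem_top :
            (LinearMap.range j).mkQ x ∈ (K ∙ (LinearMap.range j).mkQ v) ⊔ H0)
        obtain ⟨a, rfl⟩ := Submodule.mem_span_singleton.1 hy
        refine Submodule.mem_sup.2 ⟨x - a • v, ?_, a • v,
          Submodule.smul_mem _ a (Submodule.mem_span_singleton_self _), sub_add_cancel _ _⟩
        rw [hHdef, Submodule.mem_comap, map_sub, map_smul, ← hyz, add_sub_cancel_left]
        exact hz
    have hvne : v ≠ 0 := fun e => hv (e ▸ Submodule.zero_mem _)
    have hH : finrank K H = n := by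
      have := Submodule.finrank_add_eq_of_isCompl hc
      rw [finrank_span_singleton hvne] at this
      omega
    have hjH : ∀ x, j x ∈ H := fun x => by
      rw [hHdef, Submodule.mem_comap, Submodule.mkQ_apply,
        (Submodule.Quotient.mk_eq_zero _).2 (LinearMap.mem_range_self j x)]
      exact H0.zero_mem
    set j' : W →ₗ[K] H := j.codRestrict H hjH with hj'
    have hj'i : Function.Injective j' := fun a b h => hj (congrArg Subtype.val h)
    let sp : K ≃ₗ[K] (K ∙ v) := LinearEquiv.toSpanNonzeroSingleton K V v hvne
    let E : (V →ₗ[K] W) ≃ (H →ₗ[K] W) × W :=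
      { toFun := fun f => (f ∘ₗ H.subtype, f v)
        invFun := fun x => (LinearMap.coprod x.1
          ((LinearMap.toSpanSingleton K W x.2) ∘ₗ sp.symm.toLinearMap)) ∘ₗ
            (Submodule.prodEquivOfIsCompl H (K ∙ v) hc).symm.toLinearMap
        left_inv := fun f => by
          refine LinearMap.ext fun x => ?_
          obtain ⟨⟨y, z⟩, rfl⟩ := (Submodule.prodEquivOfIsCompl H (K ∙ v) hc).surjective x
          obtain ⟨a, rfl⟩ := sp.surjective z
          rw [LinearMap.comp_apply, LinearEquiv.coe_coe, LinearEquiv.symm_apply_apply]
          show f (y : V) + sp.symm (sp a) • f v = f _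
          rw [LinearEquiv.symm_apply_apply]
          simp [sp, Submodule.coe_prodEquivOfIsCompl', map_add, map_smul]
        right_inv := fun x => by
          have h1 : ∀ y : H, (Submodule.prodEquivOfIsCompl H (K ∙ v) hc).symm (y : V) = (y, 0) :=
            fun y => Submodule.prodEquivOfIsCompl_symm_apply_left _ _ hc y
          have h2 : (Submodule.prodEquivOfIsCompl H (K ∙ v) hc).symm v = (0, sp 1) := by
            have := Submodule.prodEquivOfIsCompl_symm_apply_right _ _ hc (sp 1)
            simpa [sp] using this
          refine Prod.ext (LinearMap.ext fun y => ?_) ?_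
          · show LinearMap.coprod _ _ ((Submodule.prodEquivOfIsCompl H (K ∙ v) hc).symm (y : V)) = _
            rw [h1]; simp
          · show LinearMap.coprod _ _ ((Submodule.prodEquivOfIsCompl H (K ∙ v) hc).symm v) = _
            rw [h2]; simp }
    have : Finite (H →ₗ[K] W) := finite_linearMap
    have := Fintype.ofFinite (H →ₗ[K] W)
    have := Fintype.ofFinite W
    set w := finrank K W with hw
    have hrange : ∀ (g : H →ₗ[K] W) (x : W), finrank K (LinearMap.range (E.symm (g, x))) =
        finrank K ↥(LinearMap.range g ⊔ K ∙ x) := by
      intro g x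
      refine congrArg (fun S : Submodule K W => finrank K S) ?_
      show LinearMap.range (_ ∘ₗ _) = _
      rw [LinearMap.range_comp_of_range_eq_top _ (LinearEquiv.range _), LinearMap.range_coprod,
        LinearMap.range_comp_of_range_eq_top _ (LinearEquiv.range _),
        LinearMap.span_singleton_eq_range]
    have hcond : ∀ (g : H →ₗ[K] W) (x : W), ((E.symm (g, x)) ∘ₗ j = T ↔ g ∘ₗ j' = T) := by
      intro g x
      have e : (E.symm (g, x)) ∘ₗ H.subtype = g := congrArg Prod.fst (E.apply_symm_apply (g, x))
      have : j = H.subtype ∘ₗ j' := LinearMap.ext fun y => rfl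
      rw [this, ← LinearMap.comp_assoc, e]
    rw [← Equiv.sum_comp E.symm, Fintype.sum_prod_type]
    simp only [hcond, hrange]
    set Q := Nat.card K with hQ
    have inner : ∀ g : H →ₗ[K] W, (∑ x : W, (if g ∘ₗ j' = T then
        cval Q (n + 1 - finrank K ↥(LinearMap.range g ⊔ K ∙ x)) else 0)) =
        ((Q : ℂ) ^ w - (Q : ℂ) ^ n) *
          (if g ∘ₗ j' = T then cval Q (n - finrank K (LinearMap.range g)) else 0) := by
      intro g
      split_ifs with hg
      swap; · simp
      set r := finrank K (LinearMap.range g) with hr
      have hrw : r ≤ w := Submodule.finrank_le _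
      have hrn : r < n := by
        by_contra hcon
        have hwn : w = n := by omega
        have hsurj : Function.Surjective j' :=
          (LinearMap.injective_iff_surjective_of_finrank_eq_finrank (by omega)).1 hj'i
        have : LinearMap.range g = LinearMap.range T := by
          rw [← hg, LinearMap.range_comp_of_range_eq_top _ (LinearMap.range_eq_top.2 hsurj)]
        have hne := map_ne_self_of_nilpotent hT (W := ⊤) top_ne_bot
        rw [Submodule.map_top] at hne
        have h2 := Submodule.finrank_lt hne
        rw [hr, this] at hcon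
        omega
      rw [← Finset.sum_filter_add_sum_filter_not Finset.univ (fun x => x ∈ LinearMap.range g)]
      have h1 : ∀ x ∈ Finset.univ.filter (fun x => x ∈ LinearMap.range g),
          cval Q (n + 1 - finrank K ↥(LinearMap.range g ⊔ K ∙ x)) = cval Q (n - r + 1) := by
        intro x hx
        rw [sup_eq_left.2 (by simpa using (Finset.mem_filter.1 hx).2), ← hr]
        congr 1; omega
      have h2 : ∀ x ∈ Finset.univ.filter (fun x => x ∉ LinearMap.range g),
          cval Q (n + 1 - finrank K ↥(LinearMap.range g ⊔ K ∙ x)) = cval Q (n - r) := by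
        intro x hx
        have hx' := (Finset.mem_filter.1 hx).2
        have h := Submodule.finrank_sup_add_finrank_inf_eq (LinearMap.range g) (K ∙ x)
        have hd : LinearMap.range g ⊓ K ∙ x = ⊥ := by
          rw [← disjoint_iff, Submodule.disjoint_def]
          intro y hy hy'
          obtain ⟨a, rfl⟩ := Submodule.mem_span_singleton.1 hy'
          rcases eq_or_ne a 0 with rfl | ha
          · simp
          · exact absurd ((Submodule.smul_mem_iff _ ha).1 hy) hx'
        rw [hd, finrank_bot, finrank_span_singleton (fun e : x = 0 => hx' (by rw [e]; exact Submodule.zero_mem _))] at h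
        congr 1; omega
      have hc1 : (Finset.univ.filter fun x : W => x ∈ LinearMap.range g).card = Q ^ r := by
        rw [← Fintype.card_subtype, ← Nat.card_eq_fintype_card]
        exact Module.natCard_eq_pow_finrank
      rw [Finset.sum_congr rfl h1, Finset.sum_congr rfl h2, Finset.sum_const, Finset.sum_const,
        nsmul_eq_mul, nsmul_eq_mul, hc1, natCard_ne_mem_pow, cval_succ Q (by omega : 0 < n - r),
        ← hr, ← hw, ← hQ]
      have hpow : (Q : ℂ) ^ n = (Q : ℂ) ^ r * (Q : ℂ) ^ (n - r) := by
        rw [← pow_add]; congr 1; omega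
      rw [hpow]
      push_cast
      ring
    simp only [inner, ← Finset.mul_sum]
    by_cases hwn : w = n
    · rw [hwn, sub_self, zero_mul]
    · refine mul_eq_zero_of_right _ ?_
      convert ih H hH (by omega) j' hj'i

/-- The nilpotent maps into `W` are the extensions of the nilpotent maps of `W`. -/
theorem sum_range_le [Fintype (Module.End K V)] (W : Submodule K V) [Fintype (Module.End K W)]
    [Fintype (V →ₗ[K] W)] (φ : ℕ → ℂ) :
    ∑ N : Module.End K V, (if IsNilpotent N ∧ LinearMap.range N ≤ W then
      φ (finrank K (LinearMap.range N)) else 0) =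
    ∑ T : Module.End K W, (if IsNilpotent T then ∑ f : V →ₗ[K] W,
      (if f ∘ₗ W.subtype = T then φ (finrank K (LinearMap.range f)) else 0) else 0) := by
  have hnil : ∀ f : V →ₗ[K] W,
      (IsNilpotent (W.subtype ∘ₗ f : Module.End K V) ↔ IsNilpotent (f ∘ₗ W.subtype : Module.End K W)) := by
    intro f
    set N : Module.End K V := W.subtype ∘ₗ f
    set T : Module.End K W := f ∘ₗ W.subtype
    have h1 : ∀ (t : ℕ) (x : W), ((T ^ t) x : V) = (N ^ t) x := by
      intro t
      induction t with
      | zero => simp
      | succ t ih => intro x; rw [pow_succ, pow_succ, Module.End.mul_apply, Module.End.mul_apply, ih]; rfl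
    have h2 : ∀ (t : ℕ) (x : V), (N ^ (t + 1)) x = ((T ^ t) (f x) : V) := by
      intro t x
      rw [h1, pow_succ, Module.End.mul_apply]; rfl
    constructor
    · rintro ⟨t, ht⟩
      exact ⟨t, LinearMap.ext fun x => Subtype.ext (by rw [h1, ht]; rfl)⟩
    · rintro ⟨t, ht⟩
      exact ⟨t + 1, LinearMap.ext fun x => by rw [h2, ht]; rfl⟩
  have e1 : ∑ N : Module.End K V, (if IsNilpotent N ∧ LinearMap.range N ≤ W then
      φ (finrank K (LinearMap.range N)) else 0) = ∑ f : V →ₗ[K] W,
      (if IsNilpotent (f ∘ₗ W.subtype : Module.End K W) then φ (finrank K (LinearMap.range f)) else 0) := by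
    rw [← Finset.sum_filter, ← Finset.sum_filter]
    refine Finset.sum_bij' (fun N hN => N.codRestrict W fun x =>
        (Finset.mem_filter.1 hN).2.2 (LinearMap.mem_range_self N x))
      (fun f _ => W.subtype ∘ₗ f) ?_ ?_ (fun N _ => LinearMap.ext fun x => rfl)
      (fun f _ => LinearMap.ext fun x => rfl) ?_
    · intro N hN
      simp only [Finset.mem_filter, Finset.mem_univ, true_and]
      rw [← hnil]
      exact (Finset.mem_filter.1 hN).2.1
    · intro f hf
      simp only [Finset.mem_filter, Finset.mem_univ, true_and] at hf ⊢
      exact ⟨(hnil f).2 hf, by rw [LinearMap.range_comp]; exact Submodule.map_subtype_le _ _⟩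
    · intro N hN
      congr 1
      have hle := (Finset.mem_filter.1 hN).2.2
      rw [LinearMap.range_codRestrict]
      exact ((Submodule.comapSubtypeEquivOfLe hle).finrank_eq).symm
  rw [e1]
  simp only [← Finset.sum_filter]
  rw [← Finset.sum_fiberwise_of_maps_to (g := fun f : V →ₗ[K] W => (f ∘ₗ W.subtype : Module.End K W))
    (s := Finset.univ.filter _) (t := Finset.univ.filter fun T : Module.End K W => IsNilpotent T)
    (fun f hf => by simpa using hf)]
  refine Finset.sum_congr rfl fun T hT => Finset.sum_congr ?_ fun _ _ => rfl
  ext f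
  simp only [Finset.mem_filter, Finset.mem_univ, true_and] at hT ⊢
  exact ⟨fun h => h.2, fun h => ⟨h ▸ hT, h⟩⟩

theorem card_extensions (W : Submodule K V) [Fintype (V →ₗ[K] W)] (T : Module.End K W) :
    ∑ f : V →ₗ[K] W, (if f ∘ₗ W.subtype = T then (1 : ℂ) else 0) =
      (Nat.card K : ℂ) ^ ((finrank K V - finrank K W) * finrank K W) := by
  obtain ⟨C, hC⟩ := Submodule.exists_isCompl W
  have : Finite (C →ₗ[K] W) := finite_linearMap
  have := Fintype.ofFinite (C →ₗ[K] W)
  let e : {f : V →ₗ[K] W // f ∘ₗ W.subtype = T} ≃ (C →ₗ[K] W) :=
    { toFun := fun f => f.1 ∘ₗ C.subtype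
      invFun := fun g => ⟨LinearMap.ofIsCompl hC T g, LinearMap.ext fun x => by simp⟩
      left_inv := fun f => Subtype.ext (LinearMap.ofIsCompl_eq hC
        (fun u => (LinearMap.congr_fun f.2 u).symm) (fun u => rfl))
      right_inv := fun g => LinearMap.ext fun x => by simp }
  rw [Finset.sum_boole, ← Fintype.card_subtype, Fintype.card_congr e, ← Nat.card_eq_fintype_card,
    Module.natCard_eq_pow_finrank (K := K), Module.finrank_linearMap]
  have := Submodule.finrank_add_eq_of_isCompl hC
  rw [show finrank K C = finrank K V - finrank K W by omega]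
  push_cast
  rfl

theorem choose_exp (m w : ℕ) (hw : w ≤ m) (hm : 0 < m) :
    (w * w - w) + (m - w) * w = w * (m - 1) := by
  obtain ⟨k, rfl⟩ := Nat.le.dest hw
  rcases Nat.eq_zero_or_pos w with rfl | h
  · simp
  · obtain ⟨u, rfl⟩ := Nat.exists_eq_add_of_le' h
    rw [Nat.add_sub_cancel_left, show u + 1 + k - 1 = u + k by omega,
      show (u + 1) * (u + 1) - (u + 1) = (u + 1) * u by rw [← Nat.mul_sub_one, Nat.add_sub_cancel]]
    ring

theorem range_lt_of_nilpotent {N : Module.End K V} (hN : IsNilpotent N) (hV : 0 < finrank K V) :
    finrank K (LinearMap.range N) < finrank K V := by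
  have : Nontrivial V := Module.nontrivial_of_finrank_pos hV
  have hne := map_ne_self_of_nilpotent hN (W := ⊤) top_ne_bot
  rw [Submodule.map_top] at hne
  exact Submodule.finrank_lt hne

/-- The number of nilpotent maps. -/
theorem card_nilpotent : ∀ (m : ℕ) (V : Type w) [AddCommGroup V] [Module K V] [Finite V]
    [Fintype (Module.End K V)], finrank K V = m →
    ∑ N : Module.End K V, (if IsNilpotent N then (1 : ℂ) else 0) = (Nat.card K : ℂ) ^ (m * m - m) := by
  intro m
  induction m using Nat.strong_induction_on with
  | _ m ih =>
    intro V _ _ _ _ hV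
    rcases Nat.eq_zero_or_pos m with rfl | hm
    · have : Subsingleton V := Module.finrank_zero_iff.1 hV
      have : Subsingleton (Module.End K V) := ⟨fun a b => LinearMap.ext fun x => Subsingleton.elim _ _⟩
      rw [Fintype.sum_eq_single 0 fun N hN => absurd (Subsingleton.elim N 0) hN,
        if_pos IsNilpotent.zero]
      simp
    have := Fintype.ofFinite (Submodule K V)
    set Q := Nat.card K
    set U := ∑ N : Module.End K V, (if IsNilpotent N then (1 : ℂ) else 0) with hU
    have h0 : ∀ N : Module.End K V, (if IsNilpotent N then
        ∑ W : Submodule K V, (if LinearMap.range N ≤ W then mu Q (m - finrank K W) else 0) else 0) = 0 := by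
      intro N
      split_ifs with hN
      swap; · rfl
      have : Finite (V ⧸ LinearMap.range N) := Quotient.finite _
      have := Fintype.ofFinite (Submodule K (V ⧸ LinearMap.range N))
      have hr := range_lt_of_nilpotent hN (hV ▸ hm)
      have hq := Submodule.finrank_quotient_add_finrank (LinearMap.range N)
      rw [sum_ge _ fun w => mu Q (m - w)]
      have h := congrArg (Polynomial.eval 1) (sum_mu_codim_X (K := K) (V := V ⧸ LinearMap.range N))
      simp only [eval_finsetSum, eval_mul, eval_C, eval_pow, eval_X, one_pow, mul_one, eval_prod,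
        eval_sub] at h
      rw [Finset.prod_eq_zero (i := 0) (Finset.mem_range.2 (by omega)) (by simp)] at h
      rw [← h]
      exact Finset.sum_congr rfl fun A _ => by congr 1; omega
    have h1 : ∑ W : Submodule K V, mu Q (m - finrank K W) *
        ∑ N : Module.End K V, (if IsNilpotent N ∧ LinearMap.range N ≤ W then (1 : ℂ) else 0) = 0 := by
      simp only [Finset.mul_sum]
      rw [Finset.sum_comm]
      refine Finset.sum_eq_zero fun N _ => ?_
      refine Eq.trans ?_ (h0 N)
      by_cases hN : IsNilpotent N <;> simp [hN]
    have h2 : ∀ W : Submodule K V, W ≠ ⊤ →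
        ∑ N : Module.End K V, (if IsNilpotent N ∧ LinearMap.range N ≤ W then (1 : ℂ) else 0) =
          ((Q : ℂ) ^ (m - 1)) ^ finrank K W := by
      intro W hW
      have : Finite (Module.End K W) := finite_linearMap
      have := Fintype.ofFinite (Module.End K W)
      have : Finite (V →ₗ[K] W) := finite_linearMap
      have := Fintype.ofFinite (V →ₗ[K] W)
      have hlt := Submodule.finrank_lt hW
      refine (sum_range_le W fun _ => (1 : ℂ)).trans ?_
      simp only [card_extensions]
      rw [← Finset.sum_filter, Finset.sum_const, nsmul_eq_mul]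
      have hc := ih (finrank K W) (hV ▸ hlt) W rfl
      rw [Finset.sum_boole] at hc
      rw [hc, hV, ← pow_add, choose_exp m _ (by omega) hm, ← pow_mul, mul_comm]
    have hP := congrArg (Polynomial.eval ((Q : ℂ) ^ (m - 1))) (sum_mu_codim_X (K := K) (V := V))
    rw [hV] at hP
    simp only [eval_finsetSum, eval_mul, eval_C, eval_pow, eval_X] at hP
    obtain ⟨n, rfl⟩ : ∃ n, m = n + 1 := ⟨m - 1, by omega⟩
    simp only [Nat.add_sub_cancel] at hP h2
    erw [eval_prod_sub_pow Q n, ← h1] at hP
    rw [← Finset.sum_erase_add _ _ (Finset.mem_univ (⊤ : Submodule K V)),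
      ← Finset.sum_erase_add _ _ (Finset.mem_univ (⊤ : Submodule K V)),
      Finset.sum_congr rfl fun W hW => by rw [← h2 W (Finset.ne_of_mem_erase hW)]] at hP
    rw [add_right_inj, finrank_top, hV, Nat.sub_self, mu_zero, one_mul, one_mul] at hP
    simp only [le_top, and_true] at hP
    rw [hU, ← hP, ← pow_mul, show (n + 1) * (n + 1) - (n + 1) = n * (n + 1) by
      rw [Nat.add_mul, one_mul, Nat.add_sub_cancel]]

/-- The sum of `cval` over the nilpotent maps. -/
theorem sum_cval_nilpotent [Fintype (Module.End K V)] (hV : 0 < finrank K V) :
    (((Nat.card K : ℂ) ^ finrank K V - 1)) * ∑ N : Module.End K V, (if IsNilpotent N then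
      cval (Nat.card K) (finrank K V - finrank K (LinearMap.range N)) else 0) =
      ∏ i ∈ Finset.range (finrank K V),
        ((Nat.card K : ℂ) ^ finrank K V - (Nat.card K : ℂ) ^ i) := by
  have := Fintype.ofFinite (Submodule K V)
  obtain ⟨n, hn⟩ := Nat.exists_eq_add_of_le' hV
  set Q := Nat.card K with hQdef
  have key : ∑ N : Module.End K V, (if IsNilpotent N then
      cval Q (finrank K V - finrank K (LinearMap.range N)) else 0) =
      ∑ W : Submodule K V, mu Q (n + 1 - finrank K W) * (finrank K W : ℂ) *
        ((Q : ℂ) ^ n) ^ finrank K W := by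
    calc _ = ∑ N : Module.End K V, ∑ W : Submodule K V, (if IsNilpotent N ∧ LinearMap.range N ≤ W then
          mu Q (n + 1 - finrank K W) * (finrank K W : ℂ) else 0) := by
          refine Finset.sum_congr rfl fun N _ => ?_
          by_cases hN : IsNilpotent N
          · simp only [hN, true_and, if_true, ← hn]
            exact cval_eq_sum _ fun h => (range_lt_of_nilpotent hN hV).ne (by rw [h, finrank_top])
          · simp [hN]
      _ = _ := by
          rw [Finset.sum_comm]
          refine Finset.sum_congr rfl fun W _ => ?_
          have : Finite (Module.End K W) := finite_linearMap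
          have := Fintype.ofFinite (Module.End K W)
          have : Finite (V →ₗ[K] W) := finite_linearMap
          have := Fintype.ofFinite (V →ₗ[K] W)
          have h := sum_range_le W fun _ => (1 : ℂ)
          simp only [card_extensions, ← hQdef] at h
          rw [show (∑ N : Module.End K V, if IsNilpotent N ∧ LinearMap.range N ≤ W then
              mu Q (n + 1 - finrank K W) * (finrank K W : ℂ) else 0) =
              mu Q (n + 1 - finrank K W) * (finrank K W : ℂ) *
              ∑ N : Module.End K V, (if IsNilpotent N ∧ LinearMap.range N ≤ W then (1 : ℂ) else 0) by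
            rw [Finset.mul_sum]; simp, h]
          congr 1
          have hc := card_nilpotent (K := K) (finrank K W) W rfl
          rw [← Finset.sum_filter, Finset.sum_const, nsmul_eq_mul]
          rw [Finset.sum_boole, ← hQdef] at hc
          rw [hc, hn, ← pow_add, choose_exp (n + 1) _ (hn ▸ Submodule.finrank_le W) (by omega),
            ← pow_mul, Nat.add_sub_cancel, mul_comm]
  have hP := congrArg (fun P : ℂ[X] => ((X : ℂ[X]) * derivative P).eval ((Q : ℂ) ^ n))
    (sum_mu_codim_X (K := K) (V := V))
  rw [hn] at hP ⊢ key
  have hL : (eval ((Q : ℂ) ^ n)) ((X : ℂ[X]) * derivative (∑ W : Submodule K V,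
      Polynomial.C (mu Q (n + 1 - finrank K W)) * (X : ℂ[X]) ^ finrank K W)) =
      ∑ W : Submodule K V, mu Q (n + 1 - finrank K W) * (finrank K W : ℂ) *
        ((Q : ℂ) ^ n) ^ finrank K W := by
    simp only [derivative_sum, Finset.mul_sum, eval_finsetSum, derivative_C_mul_X_pow]
    refine Finset.sum_congr rfl fun W _ => ?_
    simp only [eval_mul, eval_X, eval_C, eval_pow]
    rcases Nat.eq_zero_or_pos (finrank K W) with h | h
    · simp [h]
    · obtain ⟨u, hu⟩ := Nat.exists_eq_add_of_le' h
      rw [hu, Nat.add_sub_cancel, pow_succ]
      ring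
  simp only [← hQdef] at hP
  rw [key, ← hL, hP, Finset.prod_range_succ, derivative_mul, mul_add, eval_add]
  simp only [eval_mul, eval_X, derivative_sub, derivative_X, derivative_C, sub_zero, eval_one,
    eval_sub, eval_C, sub_self, mul_zero, zero_add, mul_one, eval_prod]
  rw [Finset.prod_range_succ' (fun i => (Q : ℂ) ^ (n + 1) - (Q : ℂ) ^ i)]
  rw [show (∏ i ∈ Finset.range n, ((Q : ℂ) ^ (n + 1) - (Q : ℂ) ^ (i + 1))) =
    (Q : ℂ) ^ n * ∏ i ∈ Finset.range n, ((Q : ℂ) ^ n - (Q : ℂ) ^ i) by
    conv_rhs => rw [show (Q : ℂ) ^ n = ∏ _i ∈ Finset.range n, (Q : ℂ) by simp]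
    rw [← Finset.prod_mul_distrib]
    refine Finset.prod_congr rfl fun i _ => ?_
    simp only [Finset.prod_const, Finset.card_range]
    ring]
  rw [pow_zero]
  ring

/-- The sum of the squares of `cval` over the nilpotent maps. -/
theorem sum_cval_sq_nilpotent [Fintype (Module.End K V)] (hV : 0 < finrank K V) :
    ∑ N : Module.End K V, (if IsNilpotent N then
      cval (Nat.card K) (finrank K V - finrank K (LinearMap.range N)) ^ 2 else 0) =
      (finrank K V : ℂ) * ∑ N : Module.End K V, (if IsNilpotent N then
        cval (Nat.card K) (finrank K V - finrank K (LinearMap.range N)) else 0) := by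
  have := Fintype.ofFinite (Submodule K V)
  set Q := Nat.card K with hQdef
  set m := finrank K V with hm
  calc _ = ∑ N : Module.End K V, ∑ W : Submodule K V,
        (if IsNilpotent N ∧ LinearMap.range N ≤ W then
          mu Q (m - finrank K W) * (finrank K W : ℂ) *
            cval Q (m - finrank K (LinearMap.range N)) else 0) := by
        refine Finset.sum_congr rfl fun N _ => ?_
        by_cases hN : IsNilpotent N
        · simp only [hN, true_and, if_true]
          rw [sq]
          conv_lhs => arg 1; rw [cval_eq_sum _
            fun h => (range_lt_of_nilpotent hN hV).ne (by rw [h, finrank_top])]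
          rw [Finset.sum_mul]
          simp only [ite_mul, zero_mul, ← hm, ← hQdef]
        · simp [hN]
    _ = _ := by
        rw [Finset.sum_comm, Finset.sum_eq_single ⊤ ?_ (fun h => absurd (Finset.mem_univ _) h)]
        · rw [Finset.mul_sum]
          refine Finset.sum_congr rfl fun N _ => ?_
          simp [mu_zero, ← hm]
        intro W _ hW
        rcases eq_or_ne W ⊥ with rfl | hW0
        · simp
        have : Nontrivial W := Submodule.nontrivial_iff_ne_bot.2 hW0
        have : Finite (Module.End K W) := finite_linearMap
        have := Fintype.ofFinite (Module.End K W)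
        have : Finite (V →ₗ[K] W) := finite_linearMap
        have := Fintype.ofFinite (V →ₗ[K] W)
        rw [sum_range_le W fun r => mu Q (m - finrank K W) * (finrank K W : ℂ) * cval Q (m - r)]
        refine Finset.sum_eq_zero fun T _ => ?_
        split_ifs with hT
        swap; · rfl
        have h := sum_extensions_eq_zero hT m V rfl (Submodule.finrank_lt hW) W.subtype
          W.injective_subtype
        refine Eq.trans ?_ (mul_eq_zero_of_right (mu Q (m - finrank K W) * (finrank K W : ℂ)) h)
        rw [Finset.mul_sum]
        exact Finset.sum_congr rfl fun f _ => by rw [mul_ite, mul_zero]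

end CfsgLib.Char.GLCusp
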