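import Cfsg.Agent.Lib.Char.GLCusp.Value

/-!
# The norm of the class function
-/

set_option autoImplicit false

open scoped Classical ComplexConjugate
open Module Polynomial

namespace CfsgLib.Char.GLCusp

open Cfsg CfsgLib.Block

universe u w v

/-- The number of linear automorphisms. -/
theorem natCard_linearEquiv {K : Type v} [Field K] [Finite K] (V : Type w) [AddCommGroup V] [Module K V]
    [Finite V] :
    (Nat.card (V ≃ₗ[K] V) : ℂ) =
      ∏ i ∈ Finset.range (finrank K V), ((Nat.card K : ℂ) ^ finrank K V - (Nat.card K : ℂ) ^ i) := by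
  have := Fintype.ofFinite K
  have e : (V ≃ₗ[K] V) ≃ GL (Fin (finrank K V)) K :=
    (LinearMap.GeneralLinearGroup.generalLinearEquiv K V).symm.toEquiv.trans
      (Units.mapEquiv (LinearMap.toMatrixAlgEquiv (Module.finBasis K V)).toMulEquiv).toEquiv
  rw [Nat.card_congr e, Matrix.card_GL_field, Nat.cast_prod, ← Fin.prod_univ_eq_prod_range
    (fun i => ((Nat.card K : ℂ) ^ finrank K V - (Nat.card K : ℂ) ^ i)) (finrank K V)]
  refine Finset.prod_congr rfl fun i _ => ?_
  rw [Nat.cast_sub (Nat.pow_le_pow_right Fintype.card_pos i.2.le), Nat.card_eq_fintype_card]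
  push_cast
  rfl

variable {F : Type u} [Field F] [Fintype F] {V : Type w} [AddCommGroup V] [Module F V] [Finite V]

/-- Roots in the endomorphisms exist. -/
theorem exists_end_root {f : F[X]} (hf : Irreducible f) (hfm : f.Monic)
    (hd : f.natDegree ∣ finrank F V) : ∃ s : Module.End F V, aeval s f = 0 := by
  haveI := Fact.mk hf
  obtain ⟨m, hm⟩ := hd
  have := (AdjoinRoot.powerBasis hfm.ne_zero).finite
  let e : (Fin m → AdjoinRoot f) ≃ₗ[F] V := LinearEquiv.ofFinrankEq _ _ (by
    rw [finrank_pi_fintype, finrank_adjoinRoot hfm, Finset.sum_const, Finset.card_univ, Fintype.card_fin,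
      smul_eq_mul, hm, mul_comm])
  refine ⟨e.conj (Algebra.lsmul F F (Fin m → AdjoinRoot f) (AdjoinRoot.root f)), ?_⟩
  rw [aeval_conj, aeval_algHom_apply, AdjoinRoot.aeval_eq, AdjoinRoot.mk_self, map_zero, map_zero]

/-- The weighted count of the primary endomorphisms of one type. -/
theorem sum_primary_sq [Fintype (Module.End F V)] {f : F[X]} (hf : Irreducible f) (hfm : f.Monic)
    {m : ℕ} (hm : m * f.natDegree = finrank F V) (hn : 0 < finrank F V) :
    ((Fintype.card F : ℂ) ^ finrank F V - 1) * ∑ g : Module.End F V, (if IsNilpotent (aeval g f) then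
      cval (Fintype.card F ^ f.natDegree)
        ((finrank F V - finrank F (LinearMap.range (aeval g f))) / f.natDegree) ^ 2 else 0) =
      (m : ℂ) * Nat.card (V ≃ₗ[F] V) := by
  haveI := Fact.mk hf
  obtain ⟨hKfin, hKcard⟩ := card_adjoinRoot (F := F) hfm
  have := (AdjoinRoot.powerBasis hfm.ne_zero).finite
  set d := f.natDegree
  set q := Fintype.card F
  set n := finrank F V
  set E := ssExp F d n with hE
  have hd0 : 0 < d := hf.natDegree_pos
  have hd := finrank_adjoinRoot (F := F) hfm
  have hm0 : 0 < m := Nat.pos_of_ne_zero fun h => by rw [h, zero_mul] at hm; omega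
  set PK : ℂ := ∏ i ∈ Finset.range m, (((q ^ d : ℕ) : ℂ) ^ m - ((q ^ d : ℕ) : ℂ) ^ i) with hPK
  set S := {s : Module.End F V // aeval s f = 0}
  have hdimK : ∀ s : S, finrank (AdjoinRoot f) (KMod (rootHom hfm s.1 s.2)) = m := fun s => by
    have h := KMod.finrank_eq (rootHom hfm s.1 s.2)
    rw [hd] at h
    exact Nat.eq_of_mul_eq_mul_left hd0 (h.trans (hm.symm.trans (mul_comm m d)))
  have hcardK : ∀ s : S, (Nat.card (KMod (rootHom hfm s.1 s.2) ≃ₗ[AdjoinRoot f]
      KMod (rootHom hfm s.1 s.2)) : ℂ) = PK := fun s => by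
    rw [natCard_linearEquiv, hdimK s, hKcard]
  -- the endomorphisms with a given semisimple part
  have hfib : ∀ s : S, ((q : ℂ) ^ n - 1) * (∑ g : Module.End F V,
      (if IsNilpotent (aeval g f) ∧ g ^ E = s.1 then
        cval (q ^ d) ((n - finrank F (LinearMap.range (aeval g f))) / d) ^ 2 else 0)) = (m : ℂ) * PK := by
    intro s
    set φ := rootHom hfm s.1 s.2 with hφ
    have : Finite (Module.End (AdjoinRoot f) (KMod φ)) := finite_linearMap
    have := Fintype.ofFinite (Module.End (AdjoinRoot f) (KMod φ))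
    have hsum : (∑ g : Module.End F V, (if IsNilpotent (aeval g f) ∧ g ^ E = s.1 then
        cval (q ^ d) ((n - finrank F (LinearMap.range (aeval g f))) / d) ^ 2 else 0)) =
        ∑ A : Module.End (AdjoinRoot f) (KMod φ), (if IsNilpotent A then
          cval (Nat.card (AdjoinRoot f)) (finrank (AdjoinRoot f) (KMod φ) -
            finrank (AdjoinRoot f) (LinearMap.range A)) ^ 2 else 0) := by
      rw [← Finset.sum_filter, ← Finset.sum_filter]
      have hcom : ∀ g : Module.End F V, g ^ E = s.1 → ∀ k, Commute (φ k) (g - s.1) := fun g h =>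
        commute_rootHom hfm s.1 s.2 _ ((h ▸ (Commute.refl g).pow_left E).sub_right (Commute.refl _))
      refine Finset.sum_bij' (fun g hg => KMod.endOf φ (g - s.1) (hcom g (Finset.mem_filter.1 hg).2.2))
        (fun A _ => s.1 + ((KMod.endEquiv φ).symm A).1) ?_ ?_ ?_ ?_ ?_
      · intro g hg
        obtain ⟨-, hnil, he⟩ := Finset.mem_filter.1 hg
        refine Finset.mem_filter.2 ⟨Finset.mem_univ _, (KMod.isNilpotent_endOf φ _ _).2 ?_⟩
        rw [← he]
        exact (semisimple_part hf hnil).2
      · intro A hA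
        have hN : IsNilpotent ((KMod.endEquiv φ).symm A).1 :=
          (KMod.isNilpotent_endOf φ _ ((KMod.endEquiv φ).symm A).2).1 (by exact (Finset.mem_filter.1 hA).2)
        have hc : Commute s.1 ((KMod.endEquiv φ).symm A).1 := by
          have h := ((KMod.endEquiv φ).symm A).2 (AdjoinRoot.mk f X)
          have hr : φ (AdjoinRoot.mk f X) = s.1 := (rootHom_mk hfm s.1 s.2 X).trans (aeval_X _)
          rwa [hr] at h
        have hu := semisimple_part_unique hf s.2 hc hN
        refine Finset.mem_filter.2 ⟨Finset.mem_univ _, ⟨E, ?_⟩, hu⟩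
        rw [hE, ssExp, ← aeval_pow_card]
        have : (s.1 + ((KMod.endEquiv φ).symm A).1) ^ q ^ (d * (n + 1)) = s.1 := hu
        rw [this, s.2]
      · intro g hg
        show s.1 + (g - s.1) = g
        rw [add_sub_cancel]
      · intro A hA
        apply LinearMap.ext
        intro x
        show (s.1 + ((KMod.endEquiv φ).symm A).1 - s.1) x = A x
        rw [add_sub_cancel_left]
        rfl
      · intro g hg
        obtain ⟨-, hnil, he⟩ := Finset.mem_filter.1 hg
        obtain ⟨u, -, -, hfu⟩ := aeval_eq_mul_unit hf hnil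
        have hr : LinearMap.range (aeval g f) = LinearMap.range (g - s.1) := by
          rw [hfu, ← hE, he, Module.End.mul_eq_comp, LinearMap.range_comp_of_range_eq_top]
          exact LinearMap.range_eq_top.2 ((Module.End.isUnit_iff _).1 u.isUnit).2
        rw [hr, hKcard, hdimK s, ← KMod.range_endOf φ (g - s.1) (hcom g he), hd]
        congr 2
        conv_lhs => rw [← hm, mul_comm m, ← Nat.mul_sub]
        exact Nat.mul_div_cancel_left _ hd0
    rw [hsum, sum_cval_sq_nilpotent (by rw [hdimK s]; exact hm0), hdimK s]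
    have h := sum_cval_nilpotent (K := AdjoinRoot f) (V := KMod φ) (by rw [hdimK s]; exact hm0)
    rw [hdimK s, hKcard] at h
    rw [show (q : ℂ) ^ n = ((q ^ d : ℕ) : ℂ) ^ m by rw [Nat.cast_pow, ← pow_mul, mul_comm d, hm],
      mul_left_comm, hKcard, h]
  -- the number of semisimple parts
  obtain ⟨s₀, hs₀⟩ := exists_end_root (V := V) hf hfm ⟨m, by rw [mul_comm]; exact hm.symm⟩
  let base : S := ⟨s₀, hs₀⟩
  have htrans : ∀ s : S, ∃ e : V ≃ₗ[F] V, ∀ x, e (s₀ x) = s.1 (e x) := by
    intro s
    let eK : KMod (rootHom hfm s₀ hs₀) ≃ₗ[AdjoinRoot f] KMod (rootHom hfm s.1 s.2) :=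
      LinearEquiv.ofFinrankEq _ _ ((hdimK base).trans (hdimK s).symm)
    refine ⟨(KMod.of (rootHom hfm s₀ hs₀)).trans ((eK.restrictScalars F).trans
      (KMod.of (rootHom hfm s.1 s.2)).symm), fun x => ?_⟩
    have h := map_smul eK (AdjoinRoot.root f) (KMod.of (rootHom hfm s₀ hs₀) x)
    have r₀ : rootHom hfm s₀ hs₀ (AdjoinRoot.root f) = s₀ := by
      have := rootHom_mk hfm s₀ hs₀ X
      rwa [aeval_X, AdjoinRoot.mk_X] at this
    have r₁ : rootHom hfm s.1 s.2 (AdjoinRoot.root f) = s.1 := by
      have := rootHom_mk hfm s.1 s.2 X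
      rwa [aeval_X, AdjoinRoot.mk_X] at this
    rw [KMod.smul_def, KMod.smul_def, r₀, r₁] at h
    exact congrArg (KMod.of (rootHom hfm s.1 s.2)).symm h
  choose es hes using htrans
  have hconj : ∀ e : V ≃ₗ[F] V, aeval (e.conj s₀) f = 0 := fun e => by
    rw [aeval_conj, hs₀, map_zero]
  let C := {c : V ≃ₗ[F] V // ∀ x, c (s₀ x) = s₀ (c x)}
  have eGL : (V ≃ₗ[F] V) ≃ S × C :=
    { toFun := fun e => (⟨e.conj s₀, hconj e⟩, ⟨e.trans (es ⟨e.conj s₀, hconj e⟩).symm, fun x => by
        show (es _).symm (e (s₀ x)) = s₀ ((es _).symm (e x))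
        apply (es ⟨e.conj s₀, hconj e⟩).injective
        rw [LinearEquiv.apply_symm_apply, hes, LinearEquiv.apply_symm_apply]
        show e (s₀ x) = e.conj s₀ (e x)
        rw [LinearEquiv.conj_apply_apply, LinearEquiv.symm_apply_apply]⟩)
      invFun := fun x => x.2.1.trans (es x.1)
      left_inv := fun e => by
        refine LinearEquiv.ext fun x => ?_
        show es _ ((es _).symm (e x)) = e x
        rw [LinearEquiv.apply_symm_apply]
      right_inv := fun x => by
        obtain ⟨s, c⟩ := x
        have hs : ((c.1.trans (es s)).conj s₀) = s.1 := by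
          refine LinearMap.ext fun y => ?_
          obtain ⟨z, rfl⟩ := (c.1.trans (es s)).surjective y
          rw [LinearEquiv.conj_apply_apply, LinearEquiv.symm_apply_apply]
          show es s (c.1 (s₀ z)) = s.1 (es s (c.1 z))
          rw [c.2, hes]
        have hs' : (⟨(c.1.trans (es s)).conj s₀, hconj _⟩ : S) = s := Subtype.ext hs
        refine Prod.ext hs' (Subtype.ext (LinearEquiv.ext fun z => ?_))
        show (es _).symm (es s (c.1 z)) = c.1 z
        rw [hs', LinearEquiv.symm_apply_apply] }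
  have eC : C ≃ (KMod (rootHom hfm s₀ hs₀) ≃ₗ[AdjoinRoot f] KMod (rootHom hfm s₀ hs₀)) :=
    { toFun := fun c =>
        { KMod.endOf (rootHom hfm s₀ hs₀) c.1.toLinearMap (commute_rootHom hfm s₀ hs₀ _
            (LinearMap.ext fun x => (c.2 x).symm)) with
          invFun := fun x => KMod.of _ (c.1.symm ((KMod.of _).symm x))
          left_inv := fun x => c.1.symm_apply_apply _
          right_inv := fun x => c.1.apply_symm_apply _ }
      invFun := fun e => ⟨(KMod.of _).trans ((e.restrictScalars F).trans (KMod.of _).symm), fun x => by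
        have h := map_smul e (AdjoinRoot.root f) (KMod.of (rootHom hfm s₀ hs₀) x)
        have r₀ : rootHom hfm s₀ hs₀ (AdjoinRoot.root f) = s₀ := by
          have := rootHom_mk hfm s₀ hs₀ X
          rwa [aeval_X, AdjoinRoot.mk_X] at this
        rw [KMod.smul_def, KMod.smul_def, r₀] at h
        exact congrArg (KMod.of (rootHom hfm s₀ hs₀)).symm h⟩
      left_inv := fun c => Subtype.ext (LinearEquiv.ext fun x => rfl)
      right_inv := fun e => LinearEquiv.ext fun x => rfl }
  have hcount : (Nat.card (V ≃ₗ[F] V) : ℂ) = (Nat.card S : ℂ) * PK := by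
    rw [Nat.card_congr eGL, Nat.card_prod, Nat.cast_mul, Nat.card_congr eC, hcardK base]
  have := Fintype.ofFinite S
  calc _ = ((q : ℂ) ^ n - 1) * ∑ s : S, ∑ g : Module.End F V,
        (if IsNilpotent (aeval g f) ∧ g ^ E = s.1 then
          cval (q ^ d) ((n - finrank F (LinearMap.range (aeval g f))) / d) ^ 2 else 0) := by
        rw [Finset.sum_comm]
        congr 1
        refine Finset.sum_congr rfl fun g _ => ?_
        by_cases hg : IsNilpotent (aeval g f)
        · rw [Finset.sum_eq_single ⟨g ^ E, (semisimple_part hf hg).1⟩ (fun s _ hs => if_neg fun h =>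
            hs (Subtype.ext h.2.symm)) (fun h => absurd (Finset.mem_univ _) h), if_pos hg, if_pos ⟨hg, rfl⟩]
        · simp [hg]
    _ = _ := by
        rw [Finset.mul_sum]
        simp only [hfib]
        rw [Finset.sum_const, nsmul_eq_mul, Finset.card_univ, ← Nat.card_eq_fintype_card, hcount]
        ring

end CfsgLib.Char.GLCusp
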