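import Mathlib

/-!
# Alternating sums over subspaces of a finite vector space
-/

set_option autoImplicit false

open scoped Classical
open Module Polynomial

namespace CfsgLib.Char.GLCusp

/-- The Moebius value of a subspace interval of length `b` over a field of order `Q`. -/
noncomputable def mu (Q b : ℕ) : ℂ := (-1) ^ b * (Q : ℂ) ^ b.choose 2

/-- The value of the cuspidal characters at a unipotent element with `k` Jordan blocks, up to sign. -/
noncomputable def cval (Q k : ℕ) : ℂ := ∏ i ∈ Finset.Ico 1 k, (1 - (Q : ℂ) ^ i)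

theorem mu_zero (Q : ℕ) : mu Q 0 = 1 := by simp [mu]

theorem mu_succ (Q b : ℕ) : mu Q (b + 1) = -(Q : ℂ) ^ b * mu Q b := by
  simp [mu, Nat.choose_succ_succ', pow_succ, pow_add]
  ring

theorem cval_succ (Q : ℕ) {k : ℕ} (hk : 0 < k) : cval Q (k + 1) = cval Q k * (1 - (Q : ℂ) ^ k) := by
  simp [cval, Finset.prod_Ico_succ_top hk]

universe v w

variable {K : Type v} [Field K] [Finite K]

theorem natCard_ne_mem_pow {V : Type w} [AddCommGroup V] [Module K V] [Finite V] [Fintype V]
    (H : Submodule K V) :
    ((Finset.univ.filter fun x : V => x ∉ H).card : ℂ) =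
      (Nat.card K : ℂ) ^ finrank K V - (Nat.card K : ℂ) ^ finrank K H := by
  have hV : Fintype.card V = Nat.card K ^ finrank K V := by
    rw [← Nat.card_eq_fintype_card, Module.natCard_eq_pow_finrank (K := K)]
  have hH : (Finset.univ.filter fun x : V => x ∈ H).card = Nat.card K ^ finrank K H := by
    rw [← Fintype.card_subtype, ← Nat.card_eq_fintype_card]
    exact Module.natCard_eq_pow_finrank
  have h := Finset.card_filter_add_card_filter_not (s := (Finset.univ : Finset V)) (fun x => x ∈ H)
  rw [Finset.card_univ, hV, hH] at h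
  have h' := congrArg (Nat.cast (R := ℂ)) h
  push_cast at h'
  linear_combination h'

variable {V : Type w} [AddCommGroup V] [Module K V] [Finite V]

/-- Sum over the subspaces not inside a hyperplane. -/
theorem sum_not_le [Fintype (Submodule K V)] (H : Submodule K V) (hH : finrank K H + 1 = finrank K V)
    (φ : ℕ → ℂ) :
    ∑ A : Submodule K V, (if A ≤ H then 0 else φ (finrank K A)) =
      ∑ A : Submodule K V, (if A ≤ H then
        (Nat.card K : ℂ) ^ (finrank K H - finrank K A) * φ (finrank K A + 1) else 0) := by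
  have := Fintype.ofFinite V
  set Q := Nat.card K with hQdef
  have hQ : (1 : ℕ) < Q := Finite.one_lt_card
  have hco : ∀ v : V, v ∉ H → H ⊔ K ∙ v = ⊤ := fun v hv =>
    Submodule.eq_top_of_finrank_eq (le_antisymm (Submodule.finrank_le _) (by
      have : H < H ⊔ K ∙ v := left_lt_sup.2 (by simpa using hv)
      have := Submodule.finrank_lt_finrank_of_lt this
      omega))
  have hne : ∀ (B : Submodule K V) (v : V), B ≤ H → v ∉ H →
      (B ⊔ K ∙ v) ⊓ H = B ∧ finrank K ↥(B ⊔ K ∙ v) = finrank K B + 1 := by
    intro B v hB hv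
    have hd : Disjoint (K ∙ v) H := by
      rw [disjoint_iff, ← le_bot_iff]
      rintro x ⟨hx, hxH⟩
      obtain ⟨a, rfl⟩ := Submodule.mem_span_singleton.1 hx
      rcases eq_or_ne a 0 with rfl | ha
      · simp
      · exact absurd ((Submodule.smul_mem_iff H ha).1 hxH) hv
    refine ⟨?_, ?_⟩
    · rw [sup_inf_assoc_of_le _ hB, hd.eq_bot, sup_bot_eq]
    · have h := Submodule.finrank_sup_add_finrank_inf_eq B (K ∙ v)
      have h0 : B ⊓ K ∙ v = ⊥ := by
        rw [inf_comm]; exact (hd.mono_right hB).eq_bot
      have hv0 : v ≠ 0 := fun e => hv (e ▸ H.zero_mem)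
      rw [h0, finrank_bot, finrank_span_singleton hv0] at h
      omega
  have hA : ∀ A : Submodule K V, ¬ A ≤ H →
      finrank K ↥(A ⊓ H) + 1 = finrank K A ∧ ∀ v ∈ A, v ∉ H → (A ⊓ H) ⊔ K ∙ v = A := by
    intro A hA
    obtain ⟨v, hvA, hvH⟩ := SetLike.not_le_iff_exists.1 hA
    have key : ∀ v ∈ A, v ∉ H → (A ⊓ H) ⊔ K ∙ v = A := by
      intro v hvA hvH
      have h1 : K ∙ v ≤ A := by simpa using hvA
      rw [inf_sup_assoc_of_le _ h1, hco v hvH, inf_top_eq]
    refine ⟨?_, key⟩
    conv_rhs => rw [← key v hvA hvH, (hne (A ⊓ H) v inf_le_right hvH).2]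
  -- the pairs (subspace, vector outside the hyperplane)
  have key : ∑ A : Submodule K V, ∑ v : V, (if v ∈ A ∧ v ∉ H then
        φ (finrank K A) / ((Q : ℂ) ^ finrank K A - (Q : ℂ) ^ (finrank K A - 1)) else 0) =
      ∑ B : Submodule K V, ∑ v : V, (if B ≤ H ∧ v ∉ H then
        φ (finrank K B + 1) / ((Q : ℂ) ^ (finrank K B + 1) - (Q : ℂ) ^ finrank K B) else 0) := by
    rw [← Fintype.sum_prod_type' (f := fun A v => ite (v ∈ A ∧ v ∉ H) _ _),
      ← Fintype.sum_prod_type' (f := fun B v => ite (B ≤ H ∧ v ∉ H) _ _),
      ← Finset.sum_filter, ← Finset.sum_filter]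
    refine Finset.sum_nbij' (fun x => (x.1 ⊓ H, x.2)) (fun x => (x.1 ⊔ K ∙ x.2, x.2)) ?_ ?_ ?_ ?_ ?_
    · intro x hx
      simp only [Finset.mem_coe, Finset.mem_filter, Finset.mem_univ, true_and, Set.mem_ofPred_eq, Finset.coe_filter] at hx ⊢
      exact ⟨inf_le_right, hx.2⟩
    · intro x hx
      simp only [Finset.mem_coe, Finset.mem_filter, Finset.mem_univ, true_and, Set.mem_ofPred_eq, Finset.coe_filter] at hx ⊢
      exact ⟨Submodule.mem_sup_right (Submodule.mem_span_singleton_self _), hx.2⟩
    · intro x hx
      simp only [Finset.mem_coe, Finset.mem_filter, Finset.mem_univ, true_and, Set.mem_ofPred_eq, Finset.coe_filter] at hx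
      exact Prod.ext ((hA x.1 fun h => hx.2 (h hx.1)).2 x.2 hx.1 hx.2) rfl
    · intro x hx
      simp only [Finset.mem_coe, Finset.mem_filter, Finset.mem_univ, true_and, Set.mem_ofPred_eq, Finset.coe_filter] at hx
      exact Prod.ext (hne x.1 x.2 hx.1 hx.2).1 rfl
    · intro x hx
      simp only [Finset.mem_filter, Finset.mem_univ, true_and] at hx
      have := (hA x.1 fun h => hx.2 (h hx.1)).1
      rw [← this, Nat.add_sub_cancel]
  have hl : ∀ A : Submodule K V, (∑ v : V, (if v ∈ A ∧ v ∉ H then
      φ (finrank K A) / ((Q : ℂ) ^ finrank K A - (Q : ℂ) ^ (finrank K A - 1)) else 0)) =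
      if A ≤ H then 0 else φ (finrank K A) := by
    intro A
    by_cases hAH : A ≤ H
    · rw [if_pos hAH]
      exact Finset.sum_eq_zero fun v _ => if_neg fun h => h.2 (hAH h.1)
    · rw [if_neg hAH, ← Finset.sum_filter, Finset.sum_const, nsmul_eq_mul]
      have e : (Finset.univ.filter fun v : V => v ∈ A ∧ v ∉ H).card =
          (Finset.univ.filter fun x : A => x ∉ H.comap A.subtype).card :=
        Finset.card_bij' (fun v hv => ⟨v, (Finset.mem_filter.1 hv).2.1⟩) (fun x _ => x.1)
          (fun v hv => by simpa using (Finset.mem_filter.1 hv).2.2)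
          (fun x hx => by simpa using (Finset.mem_filter.1 hx).2)
          (fun _ _ => rfl) (fun _ _ => rfl)
      have e2 : finrank K ↥(H.comap A.subtype) = finrank K A - 1 := by
        have h1 := (hA A hAH).1
        rw [(Submodule.equivMapOfInjective A.subtype A.injective_subtype
          (H.comap A.subtype)).finrank_eq, Submodule.map_comap_subtype]
        omega
      rw [e, natCard_ne_mem_pow, e2, mul_div_assoc', mul_div_cancel_left₀]
      rw [sub_ne_zero]
      intro h
      have h' : Q ^ finrank K A = Q ^ (finrank K A - 1) := by exact_mod_cast h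
      have := (Nat.pow_right_injective hQ) h'
      have := (hA A hAH).1
      omega
  have hr : ∀ B : Submodule K V, (∑ v : V, (if B ≤ H ∧ v ∉ H then
      φ (finrank K B + 1) / ((Q : ℂ) ^ (finrank K B + 1) - (Q : ℂ) ^ finrank K B) else 0)) =
      if B ≤ H then (Q : ℂ) ^ (finrank K H - finrank K B) * φ (finrank K B + 1) else 0 := by
    intro B
    by_cases hBH : B ≤ H
    · simp only [hBH, true_and, if_true]
      rw [← Finset.sum_filter, Finset.sum_const, nsmul_eq_mul, natCard_ne_mem_pow, ← hH]
      have hb : finrank K B ≤ finrank K H := Submodule.finrank_mono hBH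
      obtain ⟨j, hj⟩ := Nat.le.dest hb
      rw [← hQdef, ← hj, Nat.add_sub_cancel_left, pow_succ, pow_succ, pow_add]
      have h1 : (Q : ℂ) - 1 ≠ 0 := sub_ne_zero.2 (by exact_mod_cast hQ.ne')
      have h2 : (Q : ℂ) ^ finrank K B ≠ 0 := pow_ne_zero _ (by exact_mod_cast (by omega : Q ≠ 0))
      field_simp
    · simp [hBH]
  simp only [hl, hr] at key
  exact key

/-- The alternating sum of the powers of `X` over all subspaces. -/
theorem sum_mu_X : ∀ (n : ℕ) (V : Type w) [AddCommGroup V] [Module K V] [Finite V]
    [Fintype (Submodule K V)], finrank K V = n →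
    ∑ A : Submodule K V, Polynomial.C (mu (Nat.card K) (finrank K A)) * (X : ℂ[X]) ^ (n - finrank K A) =
      ∏ i ∈ Finset.range n, (X - Polynomial.C ((Nat.card K : ℂ) ^ i)) := by
  intro n
  induction n with
  | zero =>
    intro V _ _ _ _ hn
    have : Subsingleton V := Module.finrank_zero_iff.1 hn
    have : ∀ A : Submodule K V, A = ⊥ := fun A => Subsingleton.elim _ _
    rw [Fintype.sum_eq_single ⊥ fun A hA => absurd (this A) hA]
    simp [mu_zero]
  | succ n ih =>
    intro V _ _ _ _ hn
    obtain ⟨v, hv⟩ : ∃ v : V, v ≠ 0 := by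
      have : Nontrivial V := Module.nontrivial_of_finrank_eq_succ hn
      exact exists_ne 0
    obtain ⟨H, hvH⟩ := Submodule.exists_isCompl (K ∙ v)
    have hH : finrank K H = n := by
      have := Submodule.finrank_add_eq_of_isCompl hvH
      rw [finrank_span_singleton hv] at this
      omega
    have := Fintype.ofFinite (Submodule K H)
    ext1 j
    rw [Finset.sum_congr rfl fun (A : Submodule K V) _ => (show Polynomial.C (mu (Nat.card K) (finrank K A)) *
      (X : ℂ[X]) ^ (n + 1 - finrank K A) = (if A ≤ H then Polynomial.C (mu (Nat.card K) (finrank K A)) *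
      (X : ℂ[X]) ^ (n + 1 - finrank K A) else 0) + (if A ≤ H then 0 else
        Polynomial.C (mu (Nat.card K) (finrank K A)) * (X : ℂ[X]) ^ (n + 1 - finrank K A)) by
      split_ifs <;> simp), Finset.sum_add_distrib, coeff_add, finsetSum_coeff, finsetSum_coeff]
    simp only [apply_ite (fun P : ℂ[X] => P.coeff j), coeff_zero]
    rw [sum_not_le H (by omega)
      (fun a => (Polynomial.C (mu (Nat.card K) a) * (X : ℂ[X]) ^ (n + 1 - a)).coeff j)]
    rw [← Finset.sum_add_distrib, Finset.prod_range_succ, ← ih H hH]
    rw [← Finset.sum_subset (Finset.subset_univ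
      (Finset.univ.map ⟨fun B : Submodule K H => B.map H.subtype,
        Submodule.map_injective_of_injective H.injective_subtype⟩))
      (fun A _ hA => by
        have : ¬ A ≤ H := fun h => hA (Finset.mem_map.2 ⟨A.comap H.subtype, Finset.mem_univ _,
          by simpa [Submodule.map_comap_subtype] using h⟩)
        simp [this]), Finset.sum_map, Finset.sum_mul, finsetSum_coeff]
    refine Finset.sum_congr rfl fun B _ => ?_
    simp only [Function.Embedding.coeFn_mk, Submodule.map_subtype_le, if_true]
    rw [(Submodule.equivMapOfInjective H.subtype H.injective_subtype B).finrank_eq.symm, hH]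
    have hb : finrank K B ≤ n := hH ▸ Submodule.finrank_le B
    obtain ⟨i, hi⟩ := Nat.le.dest hb
    have e1 : n + 1 - finrank K B = i + 1 := by omega
    have e2 : n + 1 - (finrank K B + 1) = i := by omega
    have e3 : n - finrank K B = i := by omega
    rw [e1, e2, e3, ← coeff_C_mul, ← coeff_add, mu_succ]
    congr 1
    rw [← hi, pow_succ, pow_add]
    simp only [map_mul, map_neg, map_pow]
    ring

/-- The same with the weights by codimension. -/
theorem sum_mu_codim_X [Fintype (Submodule K V)] :
    ∑ W : Submodule K V, Polynomial.C (mu (Nat.card K) (finrank K V - finrank K W)) *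
      (X : ℂ[X]) ^ finrank K W =
      ∏ i ∈ Finset.range (finrank K V), (X - Polynomial.C ((Nat.card K : ℂ) ^ i)) := by
  have : Finite (Module.Dual K V) := Module.finite_of_finite K
  have := Fintype.ofFinite (Submodule K (Module.Dual K V))
  rw [← sum_mu_X (K := K) (finrank K V) (Module.Dual K V) Subspace.dual_finrank_eq]
  refine Fintype.sum_bijective (fun W => W.dualAnnihilator) ⟨fun a b e => Subspace.dualAnnihilator_inj.1 e, ?_⟩ _ _ ?_
  · intro A
    exact ⟨A.dualCoannihilator, Subspace.dualCoannihilator_dualAnnihilator_eq⟩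
  · intro W
    have h := Subspace.finrank_add_finrank_dualAnnihilator_eq W
    have : finrank K W ≤ finrank K V := Submodule.finrank_le W
    rw [show finrank K W.dualAnnihilator = finrank K V - finrank K W by omega,
      show finrank K V - (finrank K V - finrank K W) = finrank K W by omega]

theorem eval_prod_sub_pow (Q m : ℕ) :
    (∏ i ∈ Finset.range (m + 1), (X - Polynomial.C ((Q : ℂ) ^ i))).eval ((Q : ℂ) ^ m) = 0 := by
  rw [eval_prod]
  exact Finset.prod_eq_zero (Finset.self_mem_range_succ m) (by simp)

theorem sum_mu_sup [Fintype (Submodule K V)] :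
    ∑ A : Submodule K V, mu (Nat.card K) (finrank K A) = if finrank K V = 0 then 1 else 0 := by
  have h := congrArg (Polynomial.eval 1) (sum_mu_X (K := K) (finrank K V) V rfl)
  simp only [eval_finsetSum, eval_mul, eval_C, eval_pow, eval_X, one_pow, mul_one, eval_prod,
    eval_sub] at h
  rw [h]
  split_ifs with h0
  · simp [h0]
  · exact Finset.prod_eq_zero (Finset.mem_range.2 (Nat.pos_of_ne_zero h0)) (by simp)

/-- Sums over the subspaces containing `R`. -/
theorem sum_ge [Fintype (Submodule K V)] (R : Submodule K V) [Fintype (Submodule K (V ⧸ R))]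
    (φ : ℕ → ℂ) :
    ∑ W : Submodule K V, (if R ≤ W then φ (finrank K W) else 0) =
      ∑ A : Submodule K (V ⧸ R), φ (finrank K A + finrank K R) := by
  rw [← Finset.sum_filter]
  symm
  refine Finset.sum_bij (fun A _ => A.comap R.mkQ) (fun A _ => by
      simpa using Submodule.le_comap_mkQ R A) (fun A _ B _ h =>
        Submodule.comap_injective_of_surjective R.mkQ_surjective h)
    (fun W hW => ⟨W.map R.mkQ, Finset.mem_univ _, by
      have hW' : R ≤ W := (Finset.mem_filter.1 hW).2
      rw [Submodule.comap_map_mkQ, sup_eq_right.2 hW']⟩) (fun A _ => ?_)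
  congr 1
  have h := (R.mkQ.domRestrict (A.comap R.mkQ)).finrank_range_add_finrank_ker
  have h1 : LinearMap.range (R.mkQ.domRestrict (A.comap R.mkQ)) = A := by
    rw [LinearMap.range_domRestrict, Submodule.map_comap_eq, Submodule.range_mkQ, top_inf_eq]
  have h2 : finrank K (LinearMap.ker (R.mkQ.domRestrict (A.comap R.mkQ))) = finrank K R := by
    rw [LinearMap.ker_domRestrict,
      (Submodule.equivMapOfInjective (A.comap R.mkQ).subtype (Submodule.injective_subtype _)
        (R.mkQ.ker.comap (A.comap R.mkQ).subtype)).finrank_eq,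
      Submodule.map_comap_subtype, Submodule.ker_mkQ,
      inf_eq_right.2 (Submodule.le_comap_mkQ R A)]
  rw [h1, h2] at h
  exact h

theorem cval_eq_deriv {k : ℕ} (Q : ℕ) (hk : 0 < k) :
    (derivative (∏ i ∈ Finset.range k, (X - Polynomial.C ((Q : ℂ) ^ i)))).eval 1 = cval Q k := by
  obtain ⟨j, rfl⟩ := Nat.exists_eq_add_of_le' hk
  rw [Finset.prod_range_succ', derivative_mul, eval_add, eval_mul, eval_mul]
  simp only [pow_zero, derivative_sub, derivative_X, derivative_C, sub_zero, eval_one, mul_one,
    eval_sub, eval_X, eval_C, sub_self, mul_zero, zero_add, eval_prod]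
  rw [cval, Finset.prod_Ico_eq_prod_range, Nat.add_sub_cancel]
  simp [add_comm]

/-- The value `cval` as an alternating sum over the subspaces containing `R`. -/
theorem cval_eq_sum [Fintype (Submodule K V)] (R : Submodule K V) (hR : R ≠ ⊤) :
    cval (Nat.card K) (finrank K V - finrank K R) =
      ∑ W : Submodule K V, (if R ≤ W then
        mu (Nat.card K) (finrank K V - finrank K W) * (finrank K W : ℂ) else 0) := by
  have : Finite (V ⧸ R) := Quotient.finite _
  have := Fintype.ofFinite (Submodule K (V ⧸ R))
  rw [sum_ge R (fun w => mu (Nat.card K) (finrank K V - w) * (w : ℂ))]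
  have hk : finrank K (V ⧸ R) + finrank K R = finrank K V := Submodule.finrank_quotient_add_finrank R
  have hk0 : 0 < finrank K (V ⧸ R) := by
    have := Submodule.finrank_lt (lt_top_iff_ne_top.2 hR).ne
    omega
  rw [show finrank K V - finrank K R = finrank K (V ⧸ R) by omega]
  have hP := sum_mu_codim_X (K := K) (V := V ⧸ R)
  have h0 : ∑ A : Submodule K (V ⧸ R),
      mu (Nat.card K) (finrank K (V ⧸ R) - finrank K A) = 0 := by
    have h := congrArg (Polynomial.eval 1) hP
    simp only [eval_finsetSum, eval_mul, eval_C, eval_pow, eval_X, one_pow, mul_one, eval_prod,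
      eval_sub] at h
    rw [h]
    exact Finset.prod_eq_zero (Finset.mem_range.2 hk0) (by simp)
  have h1 : ∑ A : Submodule K (V ⧸ R),
      mu (Nat.card K) (finrank K (V ⧸ R) - finrank K A) * (finrank K A : ℂ) =
        cval (Nat.card K) (finrank K (V ⧸ R)) := by
    have h := congrArg (fun P : ℂ[X] => (derivative P).eval 1) hP
    simpa [← cval_eq_deriv _ hk0, eval_finsetSum, derivative_mul, derivative_X_pow] using h
  calc cval (Nat.card K) (finrank K (V ⧸ R))
      = ∑ A : Submodule K (V ⧸ R), (mu (Nat.card K) (finrank K (V ⧸ R) - finrank K A) *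
          (finrank K A : ℂ) + (finrank K R : ℂ) *
            mu (Nat.card K) (finrank K (V ⧸ R) - finrank K A)) := by
        rw [Finset.sum_add_distrib, ← Finset.mul_sum, h0, h1, mul_zero, add_zero]
    _ = _ := Finset.sum_congr rfl fun A _ => by
        rw [show finrank K V - (finrank K A + finrank K R) = finrank K (V ⧸ R) - finrank K A by omega]
        push_cast
        ring

end CfsgLib.Char.GLCusp
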