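import Cfsg.Agent.Lib.Char.GLCusp.Norm

/-!
# Sums over the multiplicative group of the extension of degree `n`
-/

set_option autoImplicit false

open scoped Classical ComplexConjugate
open Module Polynomial

namespace CfsgLib.Char.GLCusp

open Cfsg CfsgLib.Block

universe u w

theorem conj_cval (Q k : ℕ) : conj (cval Q k) = cval Q k := by simp [cval, map_prod]

variable {p : ℕ} {M : Ideal AlgInt} [M.IsMaximal] (hM : IsPModular p M)

/-- A generator of the residues of order dividing `N`. -/
theorem exists_res_primitive (hM : IsPModular p M) {N : ℕ} (hN : ¬ p ∣ N) :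
    ∃ ζ : ResField M, IsPrimitiveRoot ζ N ∧ IsPrimitiveRoot (liftRoot hM ζ) N := by
  have hN0 : N ≠ 0 := fun e => hN (e ▸ dvd_zero p)
  obtain ⟨z, hz⟩ := exists_primitiveRoot_locRing M N hN0
  have hl : liftRoot hM (res M z) = z := liftRoot_res hM hN hz.pow_eq_one
  refine ⟨res M z, ?_, ?_⟩
  · rw [IsPrimitiveRoot.iff_def]
    refine ⟨by rw [← map_pow, hz.pow_eq_one, map_one], fun l h => hz.dvd_of_pow_eq_one l ?_⟩
    refine res_rootOfUnity_injective hM hN ?_ (one_pow N) (by rw [map_pow, h, map_one])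
    rw [← pow_mul, mul_comm, pow_mul, hz.pow_eq_one, one_pow]
  · rw [hl]
    exact hz.map_of_injective (f := (locRing M).subtype) Subtype.val_injective

theorem sum_corr {z : ℂ} {N : ℕ} (hN : 0 < N) (hz : IsPrimitiveRoot z N) (a b : ℕ) :
    ∑ j ∈ Finset.range N, (z ^ j) ^ a * conj ((z ^ j) ^ b) =
      if a % N = b % N then (N : ℂ) else 0 := by
  haveI : NeZero N := ⟨hN.ne'⟩
  have hconj : conj z = z⁻¹ := (Complex.inv_eq_conj (hz.norm'_eq_one hN.ne')).symm
  have hz0 : z ≠ 0 := hz.ne_zero hN.ne'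
  have hterm : ∀ j : ℕ, (z ^ j) ^ a * conj ((z ^ j) ^ b) = (z ^ a * (z ^ b)⁻¹) ^ j := fun j => by
    rw [map_pow, map_pow, hconj, inv_pow, inv_pow, mul_pow, inv_pow, ← pow_mul, ← pow_mul, ← pow_mul, ← pow_mul,
      mul_comm j a, mul_comm j b]
  simp only [hterm]
  set w := z ^ a * (z ^ b)⁻¹ with hw
  have hw1 : w = 1 ↔ a % N = b % N := by
    rw [hw, mul_inv_eq_one₀ (pow_ne_zero _ hz0), ← hz.injOn_pow.eq_iff (Finset.mem_coe.2
      (Finset.mem_range.2 (Nat.mod_lt a hN))) (Finset.mem_coe.2 (Finset.mem_range.2 (Nat.mod_lt b hN))),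
      ← pow_eq_pow_mod a hz.pow_eq_one, ← pow_eq_pow_mod b hz.pow_eq_one]
  split_ifs with h
  · simp [hw1.2 h]
  · rw [geom_sum_eq (fun e => h (hw1.1 e))]
    have : w ^ N = 1 := by
      rw [hw, mul_pow, inv_pow, ← pow_mul, ← pow_mul, mul_comm a, mul_comm b, pow_mul, pow_mul,
        hz.pow_eq_one, one_pow, one_pow, inv_one, mul_one]
    rw [this, sub_self, zero_div]

theorem pow_lt_pow_sub_one {q n i : ℕ} (hq : 2 ≤ q) (hn : 2 ≤ n) (hi : i < n) : q ^ i < q ^ n - 1 := by
  obtain ⟨k, rfl⟩ := Nat.exists_eq_add_of_le' (show 1 ≤ n by omega)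
  have h1 : q ^ i ≤ q ^ k := Nat.pow_le_pow_right (by omega) (by omega)
  have h2 : 2 ≤ q ^ k := le_trans hq (by simpa using Nat.pow_le_pow_right (show 1 ≤ q by omega) (show 1 ≤ k by omega))
  have h3 : 2 * q ^ k ≤ q ^ (k + 1) := by rw [pow_succ']; exact Nat.mul_le_mul_right _ hq
  omega

variable {F : Type u} [Field F] [Fintype F] (ι : F →+* ResField M)

/-- The residues with a period of length `n`. -/
noncomputable def perSet (ζ : ResField M) (N : ℕ) : Finset (ResField M) :=
  (Finset.range N).image fun j => ζ ^ j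

theorem mem_perSet {ζ : ResField M} {N : ℕ} (hN : 0 < N) (hζ : IsPrimitiveRoot ζ N) {x : ResField M} :
    x ∈ perSet ζ N ↔ x ^ N = 1 := by
  haveI : NeZero N := ⟨hN.ne'⟩
  rw [perSet, Finset.mem_image]
  constructor
  · rintro ⟨j, -, rfl⟩
    rw [← pow_mul, mul_comm, pow_mul, hζ.pow_eq_one, one_pow]
  · intro h
    obtain ⟨j, hj, e⟩ := hζ.eq_pow_of_pow_eq_one h
    exact ⟨j, Finset.mem_range.2 hj, e⟩

theorem sum_perSet {ζ : ResField M} {N : ℕ} (hζ : IsPrimitiveRoot ζ N) (φ : ResField M → ℂ) :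
    ∑ x ∈ perSet ζ N, φ x = ∑ j ∈ Finset.range N, φ (ζ ^ j) := by
  rw [perSet, Finset.sum_image hζ.injOn_pow]

/-- The norm of the orbit sums. -/
theorem sum_orbitSum_sq {ζ : ResField M} {n : ℕ} (hn : 2 ≤ n)
    (hζ : IsPrimitiveRoot ζ (Fintype.card F ^ n - 1))
    (hz : IsPrimitiveRoot (liftRoot hM ζ) (Fintype.card F ^ n - 1)) :
    ∑ x ∈ perSet ζ (Fintype.card F ^ n - 1),
      orbitSum hM (F := F) n x * conj (orbitSum hM (F := F) n x) =
        (n : ℂ) * ((Fintype.card F : ℂ) ^ n - 1) := by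
  set q := Fintype.card F
  have hq : 2 ≤ q := Fintype.one_lt_card
  set N := q ^ n - 1
  have hN : 0 < N := lt_of_le_of_lt (Nat.zero_le _) (pow_lt_pow_sub_one hq hn (show 0 < n by omega))
  rw [sum_perSet hζ]
  have : ∀ j, orbitSum hM (F := F) n (ζ ^ j) * conj (orbitSum hM (F := F) n (ζ ^ j)) =
      ∑ i ∈ Finset.range n, ∑ l ∈ Finset.range n,
        (liftRoot hM ζ ^ j) ^ q ^ i * conj ((liftRoot hM ζ ^ j) ^ q ^ l) := fun j => by
    simp only [orbitSum, liftRoot_pow, map_sum, Finset.sum_mul, Finset.mul_sum]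
    rw [Finset.sum_comm]
  simp only [this]
  rw [Finset.sum_comm, Finset.sum_congr rfl fun i hi => by
    rw [Finset.sum_comm, Finset.sum_congr rfl fun l _ => sum_corr hN hz (q ^ i) (q ^ l),
      Finset.sum_eq_single i (fun l hl hne => if_neg fun e => hne ?_) (fun h => absurd hi h), if_pos rfl]
    rw [Nat.mod_eq_of_lt (pow_lt_pow_sub_one hq hn (Finset.mem_range.1 hi)),
      Nat.mod_eq_of_lt (pow_lt_pow_sub_one hq hn (Finset.mem_range.1 hl))] at e
    exact (Nat.pow_right_injective hq e).symm]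
  rw [Finset.sum_const, Finset.card_range, nsmul_eq_mul, Nat.cast_sub (Nat.one_le_pow _ _ (by omega))]
  push_cast
  rfl

section Minpoly

variable {n : ℕ} {x : ResField M}

/-- The minimal polynomial over `F` of a residue with a period. -/
theorem exists_minpoly (hn : 0 < n) (hx : x ^ (Fintype.card F ^ n - 1) = 1) :
    ∃ f : F[X], Irreducible f ∧ f.Monic ∧ (f.map ι).IsRoot x ∧ f ≠ X ∧ f.natDegree ∣ n := by
  letI := ι.toAlgebra
  have h1 : 1 ≤ Fintype.card F ^ n := Nat.one_le_pow _ _ Fintype.card_pos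
  have hx' : x ^ Fintype.card F ^ n = x := by
    conv_lhs => rw [← Nat.sub_add_cancel h1, pow_succ, hx, one_mul]
  have hint : IsIntegral F x := ⟨X ^ Fintype.card F ^ n - X,
    monic_X_pow_sub (by rw [degree_X]; exact_mod_cast Nat.one_lt_pow hn.ne' Fintype.one_lt_card),
    by simp [hx']⟩
  refine ⟨minpoly F x, minpoly.irreducible hint, minpoly.monic hint, ?_, fun e => ?_, ?_⟩
  · rw [IsRoot, eval_map]; exact minpoly.aeval F x
  · have h := minpoly.aeval F x
    rw [e, aeval_X] at h
    rw [h, zero_pow] at hx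
    · exact zero_ne_one hx
    · have : 1 < Fintype.card F ^ n := Nat.one_lt_pow hn.ne' Fintype.one_lt_card
      omega
  · refine (minpoly.irreducible hint).natDegree_dvd_of_dvd_X_pow_card_pow_sub_X (minpoly.dvd F x ?_)
    simp [Nat.card_eq_fintype_card, hx']

theorem minpoly_unique_root {f f' : F[X]} (hf : Irreducible f) (hfm : f.Monic)
    (hr : (f.map ι).IsRoot x) (hf' : Irreducible f') (hfm' : f'.Monic) (hr' : (f'.map ι).IsRoot x) :
    f = f' := by
  letI := ι.toAlgebra
  rw [IsRoot, eval_map] at hr hr'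
  exact eq_of_monic_of_associated hfm hfm' (hf.associated_of_dvd hf'
    ((hf.dvd_iff_aeval_eq_zero (b := x) hr).1 hr'))

end Minpoly

/-- The norm of the class function on the group of automorphisms. -/
theorem norm_fcl {V : Type w} [AddCommGroup V] [Module F V] [Finite V]
    [Fintype (Module.End F V)ˣ] (hp : ¬ p ∣ Fintype.card F ^ finrank F V - 1)
    (hn : 2 ≤ finrank F V) :
    ∑ g : (Module.End F V)ˣ, fcl hM ι (g : Module.End F V) * conj (fcl hM ι (g : Module.End F V)) =
      (Nat.card (Module.End F V)ˣ : ℂ) := by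
  have : Finite (Module.End F V) := finite_linearMap
  have := Fintype.ofFinite (Module.End F V)
  set q := Fintype.card F with hq'
  set n := finrank F V with hn'
  have hq : 2 ≤ q := Fintype.one_lt_card
  set N := q ^ n - 1
  obtain ⟨ζ, hζ, hz⟩ := exists_res_primitive hM hp
  have hN : 0 < N := lt_of_le_of_lt (Nat.zero_le _) (pow_lt_pow_sub_one hq hn (show 0 < n by omega))
  choose! mp hmp using fun x (hx : x ∈ perSet ζ N) =>
    exists_minpoly ι (n := n) (by omega) ((mem_perSet hN hζ).1 hx)
  set T := (perSet ζ N).image mp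
  have hT : ∀ f ∈ T, Irreducible f ∧ f.Monic ∧ f ≠ X ∧ f.natDegree ∣ n := by
    intro f hf
    obtain ⟨x, hx, rfl⟩ := Finset.mem_image.1 hf
    exact ⟨(hmp x hx).1, (hmp x hx).2.1, (hmp x hx).2.2.2.1, (hmp x hx).2.2.2.2⟩
  -- the fibres of the minimal polynomials are the root sets
  have hfibre : ∀ f ∈ T, (perSet ζ N).filter (fun x => mp x = f) = (f.map ι).roots.toFinset ∧
      ((f.map ι).roots.toFinset).card = f.natDegree := by
    intro f hf
    obtain ⟨x₀, hx₀, rfl⟩ := Finset.mem_image.1 hf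
    obtain ⟨h1, h2, h3, h4, h5⟩ := hmp x₀ hx₀
    refine ⟨?_, ?_⟩
    · ext x
      rw [Finset.mem_filter, Multiset.mem_toFinset, mem_roots (h2.map ι).ne_zero]
      constructor
      · rintro ⟨hx, e⟩
        rw [← e]; exact (hmp x hx).2.2.1
      · intro hr
        have hper : x ^ q ^ n = x := by
          letI := ι.toAlgebra
          exact pow_card_eq_self h1 (by rwa [aeval_def, eval₂_eq_eval_map]) h5
        have hx0 : x ≠ 0 := by
          intro e
          subst e
          have h := minpoly_unique_root ι h1 h2 hr irreducible_X monic_X (by simp)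
          exact h4 h
        have hx : x ∈ perSet ζ N := by
          rw [mem_perSet hN hζ]
          refine mul_right_cancel₀ hx0 ?_
          rw [← pow_succ, Nat.sub_add_cancel (Nat.one_le_pow _ _ (by omega)), one_mul, hper]
        exact ⟨hx, minpoly_unique_root ι (hmp x hx).1 (hmp x hx).2.1 (hmp x hx).2.2.1 h1 h2 hr⟩
    · rw [Multiset.toFinset_card_of_nodup
        (nodup_roots (PerfectField.separable_of_irreducible h1).map), (roots_orbit ι h1 h2 h3).2,
        Multiset.card_map, Multiset.card_range]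
  set c : F[X] → Module.End F V → ℂ := fun f g => if IsNilpotent (aeval g f) then
    cval (q ^ f.natDegree) ((n - finrank F (LinearMap.range (aeval g f))) / f.natDegree) ^ 2 else 0
  have hunit : ∀ f ∈ T, ∀ g : Module.End F V, IsNilpotent (aeval g f) → IsUnit g := by
    intro f hf g hg
    obtain ⟨h1, h2, h4, -⟩ := hT f hf
    obtain ⟨hs, hnil⟩ := semisimple_part h1 hg
    set s := g ^ ssExp F f.natDegree (finrank F V) with hs'
    have hcop : IsCoprime (X : F[X]) f :=
      (irreducible_X.coprime_iff_not_dvd).2 fun h => h4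
        (eq_of_monic_of_associated h2 monic_X ((irreducible_X.associated_of_dvd h1 h).symm))
    obtain ⟨a, b, hab⟩ := hcop
    have hr := congrArg (aeval s) hab
    rw [map_add, map_mul, map_mul, hs, mul_zero, add_zero, map_one, aeval_X] at hr
    have hr' : s * aeval s a = 1 := by
      have h := ((Commute.all a (X : F[X])).map (aeval s)).eq
      rw [aeval_X] at h
      rw [← h, hr]
    have hu : IsUnit s := ⟨⟨s, _, hr', hr⟩, rfl⟩
    rw [show g = s + (g - s) by rw [add_sub_cancel]]
    exact hnil.isUnit_add_left_of_commute hu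
      ((((Commute.refl g).pow_right _).sub_left (Commute.refl s)))
  have hterm : ∀ g : Module.End F V, (if IsUnit g then fcl hM ι g * conj (fcl hM ι g) else 0) =
      ∑ f ∈ T, lsum hM (f.map ι) * conj (lsum hM (f.map ι)) * c f g := by
    intro g
    by_cases h : IsUnit g ∧ ∃ f : F[X], Irreducible f ∧ f.Monic ∧ IsNilpotent (aeval g f)
    · obtain ⟨hu, f, hf, hfm, hnil⟩ := h
      obtain ⟨m, -, hmd⟩ := charpoly_eq_pow hf hfm hnil
      have hfX : f ≠ X := by
        rintro rfl
        rw [aeval_X] at hnil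
        have : Nontrivial V := Module.nontrivial_of_finrank_pos (R := F) (by omega)
        exact hnil.not_isUnit hu
      have hfT : f ∈ T := by
        obtain ⟨x, hx⟩ := haveI := isAlgClosed_resField (M := M)
          IsAlgClosed.exists_root (f.map ι) (by
            rw [degree_map]; exact (Polynomial.degree_pos_of_irreducible hf).ne')
        have hx0 : x ≠ 0 := by
          intro e
          subst e
          exact hfX (minpoly_unique_root ι hf hfm hx irreducible_X monic_X (by simp))
        have hper : x ^ q ^ n = x := by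
          letI := ι.toAlgebra
          exact pow_card_eq_self hf (by rwa [aeval_def, eval₂_eq_eval_map]) (Dvd.intro_left m hmd)
        have hxm : x ∈ perSet ζ N := by
          rw [mem_perSet hN hζ]
          refine mul_right_cancel₀ hx0 ?_
          rw [← pow_succ, Nat.sub_add_cancel (Nat.one_le_pow _ _ (by omega)), one_mul, hper]
        exact Finset.mem_image.2 ⟨x, hxm, minpoly_unique_root ι (hmp x hxm).1 (hmp x hxm).2.1
          (hmp x hxm).2.2.1 hf hfm hx⟩
      rw [if_pos hu, fcl_eq hM ι (by omega) hf hfm hnil, Finset.sum_eq_single f ?_ (fun h => absurd hfT h)]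
      · simp only [c, if_pos hnil, map_mul, conj_cval]
        ring
      · intro f' hf' hne
        refine mul_eq_zero_of_right _ (if_neg fun h => hne ?_)
        exact unique_primary (by omega) (hT f' hf').1 (hT f' hf').2.1 h hf hfm hnil
    · rw [Finset.sum_eq_zero (fun f hf => mul_eq_zero_of_right _ (if_neg fun hnil =>
        h ⟨hunit f hf g hnil, f, (hT f hf).1, (hT f hf).2.1, hnil⟩))]
      split_ifs with hu
      · rw [fcl, dif_neg fun h' => h ⟨hu, h'.2⟩, zero_mul]
      · rfl
  have hU : ∑ g : (Module.End F V)ˣ, fcl hM ι (g : Module.End F V) * conj (fcl hM ι (g : Module.End F V)) =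
      ∑ g : Module.End F V, (if IsUnit g then fcl hM ι g * conj (fcl hM ι g) else 0) := by
    rw [← Finset.sum_filter]
    exact Finset.sum_bij (fun u _ => (u : Module.End F V))
      (fun u _ => Finset.mem_filter.2 ⟨Finset.mem_univ _, u.isUnit⟩)
      (fun u _ u' _ h => Units.ext h)
      (fun g hg => ⟨(Finset.mem_filter.1 hg).2.unit, Finset.mem_univ _, rfl⟩) (fun _ _ => rfl)
  rw [hU]
  simp only [hterm]
  rw [Finset.sum_comm]
  simp only [← Finset.mul_sum]
  have hGL : (Nat.card (Module.End F V)ˣ : ℂ) = Nat.card (V ≃ₗ[F] V) :=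
    congrArg Nat.cast (Nat.card_congr (LinearMap.GeneralLinearGroup.generalLinearEquiv F V).toEquiv)
  have hne : (q : ℂ) ^ n - 1 ≠ 0 := by
    rw [sub_ne_zero]
    exact_mod_cast (Nat.one_lt_pow (by omega) (by omega) : 1 < q ^ n).ne'
  have hsum : ∑ f ∈ T, ((n / f.natDegree : ℕ) : ℂ) * (lsum hM (f.map ι) * conj (lsum hM (f.map ι))) =
      (q : ℂ) ^ n - 1 := by
    have h := sum_orbitSum_sq hM (F := F) hn hζ hz
    rw [← Finset.sum_fiberwise_of_maps_to (fun x hx => Finset.mem_image_of_mem mp hx)] at h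
    have h2 : ∀ f ∈ T, ∑ x ∈ (perSet ζ N).filter (fun x => mp x = f),
        orbitSum hM (F := F) n x * conj (orbitSum hM (F := F) n x) =
        (n : ℂ) * (((n / f.natDegree : ℕ) : ℂ) * (lsum hM (f.map ι) * conj (lsum hM (f.map ι)))) := by
      intro f hf
      obtain ⟨m, hm⟩ := (hT f hf).2.2.2
      have hd : 0 < f.natDegree := (hT f hf).1.natDegree_pos
      rw [Finset.sum_congr rfl fun x hx => (show orbitSum hM (F := F) n x * conj (orbitSum hM (F := F) n x) =
          (m : ℂ) * lsum hM (f.map ι) * conj ((m : ℂ) * lsum hM (f.map ι)) by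
        rw [(hfibre f hf).1, Multiset.mem_toFinset, mem_roots ((hT f hf).2.1.map ι).ne_zero] at hx
        rw [hm, mul_comm f.natDegree, orbitSum_eq hM ι (hT f hf).1 (hT f hf).2.1 hx]),
        Finset.sum_const, nsmul_eq_mul, (hfibre f hf).1, (hfibre f hf).2, hm,
        Nat.mul_div_cancel_left _ hd, map_mul, Complex.conj_natCast]
      push_cast
      ring
    rw [Finset.sum_congr rfl h2, ← Finset.mul_sum] at h
    exact mul_left_cancel₀ (by exact_mod_cast (by omega : n ≠ 0)) h
  refine mul_left_cancel₀ hne ?_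
  rw [Finset.mul_sum, hGL]
  calc _ = ∑ f ∈ T, ((n / f.natDegree : ℕ) : ℂ) * (lsum hM (f.map ι) * conj (lsum hM (f.map ι))) *
        Nat.card (V ≃ₗ[F] V) := by
        refine Finset.sum_congr rfl fun f hf => ?_
        obtain ⟨h1, h2, -, h4⟩ := hT f hf
        have h := sum_primary_sq (V := V) h1 h2 (Nat.div_mul_cancel h4) (by omega)
        rw [mul_left_comm, h]
        ring
    _ = _ := by rw [← Finset.sum_mul, hsum]

end CfsgLib.Char.GLCusp
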