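import Cfsg.Agent.Lib.Char.GLCusp.Field
import Cfsg.Agent.Lib.Char.GLCusp.KMod
import Cfsg.Agent.Lib.Char.GLCusp.Nilpotent

/-!
# The class function and its sum over invariant subspaces
-/

set_option autoImplicit false

open scoped Classical
open Module Polynomial

namespace CfsgLib.Char.GLCusp

open Cfsg CfsgLib.Block

universe u w w'

variable {p : ℕ} {M : Ideal AlgInt} [M.IsMaximal] (hM : IsPModular p M) {F : Type u} [Field F]
  [Fintype F] (ι : F →+* ResField M)

section Space

variable {V : Type w} [AddCommGroup V] [Module F V] [FiniteDimensional F V]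

/-- The lifted eigenvalue sum. -/
noncomputable def lg (g : Module.End F V) : ℂ := lsum hM (g.charpoly.map ι)

/-- Up to sign, the cuspidal class function. -/
noncomputable def fcl (g : Module.End F V) : ℂ :=
  if h : 0 < finrank F V ∧ ∃ f : F[X], Irreducible f ∧ f.Monic ∧ IsNilpotent (aeval g f) then
    lsum hM (h.2.choose.map ι) * cval (Fintype.card F ^ h.2.choose.natDegree)
      ((finrank F V - finrank F (LinearMap.range (aeval g h.2.choose))) / h.2.choose.natDegree)
  else 0

theorem unique_primary {g : Module.End F V} (hn : 0 < finrank F V) {f f' : F[X]} (hf : Irreducible f)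
    (hfm : f.Monic) (h : IsNilpotent (aeval g f)) (hf' : Irreducible f') (hfm' : f'.Monic)
    (h' : IsNilpotent (aeval g f')) : f = f' := by
  obtain ⟨m, hm, hd⟩ := charpoly_eq_pow hf hfm h
  obtain ⟨m', hm', hd'⟩ := charpoly_eq_pow hf' hfm' h'
  have h1 : f ∣ f' ^ m' := hm' ▸ hm ▸ dvd_pow_self f (by rintro rfl; omega)
  exact eq_of_monic_of_associated hfm hfm' (hf.associated_of_dvd hf' (hf.prime.dvd_of_dvd_pow h1))

theorem fcl_eq {g : Module.End F V} (hn : 0 < finrank F V) {f : F[X]} (hf : Irreducible f)
    (hfm : f.Monic) (h : IsNilpotent (aeval g f)) :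
    fcl hM ι g = lsum hM (f.map ι) * cval (Fintype.card F ^ f.natDegree)
      ((finrank F V - finrank F (LinearMap.range (aeval g f))) / f.natDegree) := by
  have hh : 0 < finrank F V ∧ ∃ f : F[X], Irreducible f ∧ f.Monic ∧ IsNilpotent (aeval g f) :=
    ⟨hn, f, hf, hfm, h⟩
  have e := unique_primary hn hh.2.choose_spec.1 hh.2.choose_spec.2.1 hh.2.choose_spec.2.2 hf hfm h
  rw [fcl, dif_pos hh, e]

theorem fcl_eq_zero_of_finrank (g : Module.End F V) (hn : finrank F V = 0) : fcl hM ι g = 0 :=
  dif_neg fun h => by omega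

variable {V' : Type w'} [AddCommGroup V'] [Module F V'] [FiniteDimensional F V']

theorem lg_conj (e : V ≃ₗ[F] V') (g : Module.End F V) : lg hM ι (e.conj g) = lg hM ι g := by
  rw [lg, LinearEquiv.charpoly_conj, lg]

omit [Fintype F] [FiniteDimensional F V] [FiniteDimensional F V'] in
theorem aeval_conj (e : V ≃ₗ[F] V') (g : Module.End F V) (P : F[X]) :
    aeval (e.conj g) P = e.conj (aeval g P) := by
  show aeval (e.conjAlgEquiv F g) P = e.conjAlgEquiv F (aeval g P)
  exact aeval_algHom_apply _ _ _

theorem fcl_conj (e : V ≃ₗ[F] V') (g : Module.End F V) : fcl hM ι (e.conj g) = fcl hM ι g := by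
  by_cases h : 0 < finrank F V ∧ ∃ f : F[X], Irreducible f ∧ f.Monic ∧ IsNilpotent (aeval g f)
  · obtain ⟨hn, f, hf, hfm, hnil⟩ := h
    have hnil' : IsNilpotent (aeval (e.conj g) f) := by
      rw [aeval_conj]; exact hnil.map (e.conjAlgEquiv F)
    rw [fcl_eq hM ι hn hf hfm hnil, fcl_eq hM ι (e.finrank_eq ▸ hn) hf hfm hnil', ← e.finrank_eq,
      aeval_conj]
    congr 3
    have : LinearMap.range (e.conj (aeval g f)) = (LinearMap.range (aeval g f)).map e.toLinearMap := by
      rw [LinearEquiv.conj_apply, LinearMap.range_comp_of_range_eq_top _ (LinearEquiv.range _),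
        LinearMap.range_comp]
    rw [this, LinearEquiv.finrank_map_eq]
  · unfold fcl
    rw [dif_neg h, dif_neg]
    rintro ⟨hn, f, hf, hfm, hnil⟩
    refine h ⟨e.finrank_eq.symm ▸ hn, f, hf, hfm, ?_⟩
    rw [aeval_conj] at hnil
    have := hnil.map (e.conjAlgEquiv F).symm
    rwa [show (e.conjAlgEquiv F).symm (e.conj (aeval g f)) = aeval g f from
      (e.conjAlgEquiv F).symm_apply_apply _] at this

/-- The value on an invariant subspace, zero on the others. -/
noncomputable def fres (g : Module.End F V) (W : Submodule F V) : ℂ :=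
  if h : ∀ x ∈ W, g x ∈ W then fcl hM ι (g.restrict h) else 0

theorem fres_bot (g : Module.End F V) : fres hM ι g ⊥ = 0 := by
  rw [fres]
  split_ifs
  · exact fcl_eq_zero_of_finrank hM ι _ (finrank_bot F V)
  · rfl

omit [Fintype F] [FiniteDimensional F V] in
theorem aeval_mem {g : Module.End F V} {W : Submodule F V} (h : ∀ x ∈ W, g x ∈ W) (P : F[X]) :
    ∀ x ∈ W, aeval g P x ∈ W := by
  induction P using Polynomial.induction_on' with
  | add P Q hP hQ => intro x hx; rw [map_add]; exact W.add_mem (hP x hx) (hQ x hx)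
  | monomial n c =>
    intro x hx
    rw [aeval_monomial, Module.End.mul_apply, Module.algebraMap_end_apply]
    refine W.smul_mem c ?_
    induction n with
    | zero => simpa using hx
    | succ n ih => rw [pow_succ', Module.End.mul_apply]; exact h _ ih

omit [Fintype F] [FiniteDimensional F V] in
theorem coe_aeval_restrict {g : Module.End F V} {W : Submodule F V} (h : ∀ x ∈ W, g x ∈ W) (P : F[X])
    (x : W) : (aeval (g.restrict h) P x : V) = aeval g P (x : V) := by
  induction P using Polynomial.induction_on' with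
  | add P Q hP hQ => simp [map_add, hP, hQ]
  | monomial n c =>
    rw [aeval_monomial, aeval_monomial, Module.End.mul_apply, Module.End.mul_apply,
      Module.algebraMap_end_apply, Module.algebraMap_end_apply, Submodule.coe_smul]
    congr 1
    induction n with
    | zero => simp
    | succ n ih =>
      rw [pow_succ', pow_succ', Module.End.mul_apply, Module.End.mul_apply]
      exact congrArg g ih

theorem fres_map {A : Submodule F V} {g : Module.End F V} (hA : ∀ x ∈ A, g x ∈ A) (W : Submodule F A) :
    fres hM ι g (W.map A.subtype) = fres hM ι (g.restrict hA) W := by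
  have hiff : (∀ x ∈ W.map A.subtype, g x ∈ W.map A.subtype) ↔ ∀ x ∈ W, g.restrict hA x ∈ W := by
    constructor
    · intro h x hx
      obtain ⟨y, hy, e⟩ := h x ⟨x, hx, rfl⟩
      rw [show g.restrict hA x = y from Subtype.ext e.symm]
      exact hy
    · rintro h _ ⟨x, hx, rfl⟩
      exact ⟨g.restrict hA x, h x hx, rfl⟩
  rw [fres, fres]
  by_cases h : ∀ x ∈ W, g.restrict hA x ∈ W
  · rw [dif_pos h, dif_pos (hiff.2 h), ← fcl_conj hM ι (Submodule.equivMapOfInjective A.subtype
      A.injective_subtype W) ((g.restrict hA).restrict h)]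
    congr 1
    refine LinearMap.ext fun x => ?_
    obtain ⟨y, rfl⟩ := (Submodule.equivMapOfInjective A.subtype A.injective_subtype W).surjective x
    rw [LinearEquiv.conj_apply_apply, LinearEquiv.symm_apply_apply]
    exact Subtype.ext rfl
  · rw [dif_neg h, dif_neg fun e => h (hiff.1 e)]

theorem charpoly_isCompl {g : Module.End F V} {A B : Submodule F V} (h : IsCompl A B)
    (hA : ∀ x ∈ A, g x ∈ A) (hB : ∀ x ∈ B, g x ∈ B) :
    g.charpoly = (g.restrict hA).charpoly * (g.restrict hB).charpoly := by
  have he : g = (Submodule.prodEquivOfIsCompl A B h).conj ((g.restrict hA).prodMap (g.restrict hB)) := by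
    refine LinearMap.ext fun x => ?_
    obtain ⟨y, rfl⟩ := (Submodule.prodEquivOfIsCompl A B h).surjective x
    rw [LinearEquiv.conj_apply_apply, LinearEquiv.symm_apply_apply]
    show g ((y.1 : V) + (y.2 : V)) = g (y.1 : V) + g (y.2 : V)
    rw [map_add]
  conv_lhs => rw [he]
  rw [LinearEquiv.charpoly_conj, LinearMap.charpoly_prodMap]

/-- The primary case of the sum over the invariant subspaces. -/
theorem sum_fres_primary [Finite V] [Fintype (Submodule F V)] {g : Module.End F V}
    (hn : 0 < finrank F V) {f : F[X]} (hf : Irreducible f) (hfm : f.Monic)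
    (hnil : IsNilpotent (aeval g f)) :
    ∑ W : Submodule F V, fres hM ι g W = lg hM ι g := by
  haveI := Fact.mk hf
  obtain ⟨hKfin, hKcard⟩ := card_adjoinRoot (F := F) hfm
  have := (AdjoinRoot.powerBasis hfm.ne_zero).finite
  obtain ⟨hs, hN⟩ := semisimple_part hf hnil
  set E := ssExp F f.natDegree (finrank F V) with hE
  obtain ⟨u, hug, ⟨P, hP⟩, hfu⟩ := aeval_eq_mul_unit hf hnil
  rw [← hE] at hfu
  let φ := rootHom hfm (g ^ E) hs
  set N := g - g ^ E with hNdef
  have hcN : ∀ k, Commute (φ k) N := commute_rootHom hfm _ hs N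
    (((Commute.refl g).pow_left E).sub_right (Commute.refl _))
  let NK : Module.End (AdjoinRoot f) (KMod φ) := KMod.endOf φ N hcN
  have hNK : IsNilpotent NK := (KMod.isNilpotent_endOf φ N hcN).2 hN
  have hd := finrank_adjoinRoot (F := F) hfm
  have := Fintype.ofFinite (Submodule (AdjoinRoot f) (KMod φ))
  have key := sum_invariant_cval (K := AdjoinRoot f) (V := KMod φ) hNK
  -- the embedding of the subspaces over the field
  let Φ : Submodule (AdjoinRoot f) (KMod φ) ↪ Submodule F V :=
    ⟨fun W => (W.restrictScalars F).map (KMod.of φ).symm.toLinearMap, fun W W' h =>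
      Submodule.restrictScalars_injective F _ _
        (Submodule.map_injective_of_injective (KMod.of φ).symm.injective h)⟩
  have hinv : ∀ W : Submodule (AdjoinRoot f) (KMod φ), W.map NK ≤ W → ∀ x ∈ Φ W, g x ∈ Φ W := by
    rintro W hW _ ⟨y, hy, rfl⟩
    refine ⟨AdjoinRoot.root f • y + NK y, W.add_mem (W.smul_mem _ hy) (hW ⟨y, hy, rfl⟩), ?_⟩
    show (φ (AdjoinRoot.root f)) y + N y = g y
    rw [show φ (AdjoinRoot.root f) = g ^ E by
      show rootHom hfm (g ^ E) hs (AdjoinRoot.mk f X) = _
      rw [rootHom_mk, aeval_X]]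
    show (g ^ E) ((KMod.of φ).symm y) + (g - g ^ E) ((KMod.of φ).symm y) = g ((KMod.of φ).symm y)
    rw [LinearMap.sub_apply, add_sub_cancel]
  have hout : ∀ W : Submodule F V, (∀ x ∈ W, g x ∈ W) →
      ∃ W' : Submodule (AdjoinRoot f) (KMod φ), Φ W' = W ∧ W'.map NK ≤ W' := by
    intro W hW
    have hk : ∀ k, ∀ x ∈ W, φ k x ∈ W := by
      intro k
      obtain ⟨R, rfl⟩ := AdjoinRoot.mk_surjective k
      intro x hx
      show rootHom hfm (g ^ E) hs (AdjoinRoot.mk f R) x ∈ W
      rw [rootHom_mk, show aeval (g ^ E) R = aeval g (R.comp (X ^ E)) by rw [aeval_comp, map_pow, aeval_X]]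
      exact aeval_mem hW _ x hx
    refine ⟨{ carrier := {x | (KMod.of φ).symm x ∈ W}
              add_mem' := fun {a b} ha hb => W.add_mem ha hb
              zero_mem' := W.zero_mem
              smul_mem' := fun k x hx => hk k _ hx }, ?_, ?_⟩
    · ext x
      exact ⟨fun ⟨y, hy, e⟩ => e ▸ hy, fun hx => ⟨KMod.of φ x, hx, rfl⟩⟩
    · rintro _ ⟨x, hx, rfl⟩
      show N ((KMod.of φ).symm x) ∈ W
      rw [show N = aeval g ((X : F[X]) - X ^ E) by rw [map_sub, map_pow, aeval_X]]
      exact aeval_mem hW _ _ hx
  have hval : ∀ W : Submodule (AdjoinRoot f) (KMod φ), fres hM ι g (Φ W) =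
      lsum hM (f.map ι) * (if W.map NK ≤ W ∧ W ≠ ⊥ then cval (Nat.card (AdjoinRoot f))
        (finrank (AdjoinRoot f) W - finrank (AdjoinRoot f) (W.map NK)) else 0) := by
    intro W
    by_cases hW : W.map NK ≤ W
    swap
    · rw [if_neg fun h => hW h.1, mul_zero, fres, dif_neg]
      intro h
      obtain ⟨W', e, hW'⟩ := hout _ h
      exact hW (Φ.injective e ▸ hW')
    rcases eq_or_ne W ⊥ with rfl | hW0
    · rw [if_neg fun h => h.2 rfl, mul_zero, show Φ (⊥ : Submodule (AdjoinRoot f) (KMod φ)) = ⊥ by
        show Submodule.map _ (Submodule.restrictScalars F ⊥) = ⊥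
        rw [Submodule.restrictScalars_bot, Submodule.map_bot]]
      exact fres_bot hM ι g
    have hgW := hinv W hW
    have hdim : finrank F (Φ W) = f.natDegree * finrank (AdjoinRoot f) W := by
      rw [← hd]; exact (KMod.finrank_restrictScalars φ W).symm
    have hpos : 0 < finrank F (Φ W) := by
      rw [hdim]
      exact Nat.mul_pos hf.natDegree_pos (Nat.pos_of_ne_zero fun h => hW0 (Submodule.finrank_eq_zero.1 h))
    have hnilW : IsNilpotent (aeval (g.restrict hgW) f) := by
      obtain ⟨t, ht⟩ := hnil
      refine ⟨t, LinearMap.ext fun x => Subtype.ext ?_⟩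
      rw [← map_pow, coe_aeval_restrict, map_pow, ht]; rfl
    rw [fres, dif_pos hgW, fcl_eq hM ι hpos hf hfm hnilW, if_pos ⟨hW, hW0⟩, hKcard]
    congr 2
    have hrange : finrank F (LinearMap.range (aeval (g.restrict hgW) f)) =
        f.natDegree * finrank (AdjoinRoot f) (W.map NK) := by
      rw [← hd, KMod.finrank_restrictScalars φ (W.map NK),
        ← LinearEquiv.finrank_eq (Submodule.equivMapOfInjective (Φ W).subtype (Φ W).injective_subtype _).symm]
      refine congrArg (fun S : Submodule F V => finrank F S) ?_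
      have h1 : (LinearMap.range (aeval (g.restrict hgW) f)).map (Φ W).subtype = (Φ W).map (aeval g f) := by
        ext x
        constructor
        · rintro ⟨_, ⟨y, rfl⟩, rfl⟩
          exact ⟨y, y.2, (coe_aeval_restrict hgW f y).symm⟩
        · rintro ⟨y, hy, rfl⟩
          exact ⟨_, ⟨⟨y, hy⟩, rfl⟩, coe_aeval_restrict hgW f ⟨y, hy⟩⟩
      have h2 : (Φ W).map (u : Module.End F V) = Φ W := by
        refine Submodule.eq_of_le_of_finrank_eq ?_ ?_
        · rintro _ ⟨y, hy, rfl⟩
          rw [hP]
          exact aeval_mem hgW P y hy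
        · have hi : Function.Injective (u : Module.End F V) :=
            ((Module.End.isUnit_iff _).1 u.isUnit).1
          exact ((Submodule.equivMapOfInjective _ hi (Φ W)).finrank_eq).symm
      rw [h1, hfu, Module.End.mul_eq_comp, Submodule.map_comp, h2]
      ext x
      constructor
      · rintro ⟨_, ⟨y, hy, rfl⟩, rfl⟩
        exact ⟨NK y, ⟨y, hy, rfl⟩, rfl⟩
      · rintro ⟨_, ⟨y, hy, rfl⟩, rfl⟩
        exact ⟨_, ⟨y, hy, rfl⟩, rfl⟩
    rw [hdim, hrange, ← Nat.mul_sub, Nat.mul_div_cancel_left _ hf.natDegree_pos]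
  rw [← Finset.sum_subset (Finset.subset_univ (Finset.univ.map Φ)) (fun W _ hW => by
      rw [fres, dif_neg]
      intro h
      obtain ⟨W', e, -⟩ := hout W h
      exact hW (Finset.mem_map.2 ⟨W', Finset.mem_univ _, e⟩)), Finset.sum_map]
  simp only [hval, ← Finset.mul_sum]
  rw [key]
  obtain ⟨m, hm, hmd⟩ := charpoly_eq_pow hf hfm hnil
  have hdimK : finrank (AdjoinRoot f) (KMod φ) = m := by
    have h := KMod.finrank_eq φ
    rw [hd, ← hmd, mul_comm m] at h
    exact Nat.eq_of_mul_eq_mul_left hf.natDegree_pos h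
  rw [hdimK, lg, hm, Polynomial.map_pow, lsum_pow hM (hfm.map ι).ne_zero, mul_comm]

end Space

/-- The sum over the invariant subspaces. -/
theorem sum_fres : ∀ (n : ℕ) (V : Type w) [AddCommGroup V] [Module F V] [FiniteDimensional F V]
    [Finite V] [Fintype (Submodule F V)] (g : Module.End F V), finrank F V = n →
    ∑ W : Submodule F V, fres hM ι g W = lg hM ι g := by
  intro n
  induction n using Nat.strong_induction_on with
  | _ n ih =>
    intro V _ _ _ _ _ g hV
    rcases Nat.eq_zero_or_pos n with rfl | hn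
    · have h1 : g.charpoly = 1 :=
        (Polynomial.Monic.natDegree_eq_zero g.charpoly_monic).1 (by rw [g.charpoly_natDegree, hV])
      rw [lg, h1, Polynomial.map_one, lsum_one]
      refine Finset.sum_eq_zero fun W _ => ?_
      rw [fres]
      split_ifs
      · refine fcl_eq_zero_of_finrank hM ι _ ?_
        have := Submodule.finrank_le W
        omega
      · rfl
    by_cases hprim : ∃ f : F[X], Irreducible f ∧ f.Monic ∧ IsNilpotent (aeval g f)
    · obtain ⟨f, hf, hfm, hnil⟩ := hprim
      exact sum_fres_primary hM ι (hV ▸ hn) hf hfm hnil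
    have hdeg : g.charpoly.natDegree = n := by rw [g.charpoly_natDegree, hV]
    obtain ⟨f, hfm, hf, hfdvd⟩ := exists_monic_irreducible_factor g.charpoly (fun hu => by
      have := natDegree_eq_zero_of_isUnit hu; omega)
    obtain ⟨m, b, hb, he⟩ := WfDvdMonoid.max_power_factor g.charpoly_monic.ne_zero hf
    have hbm : b.Monic := Monic.of_mul_monic_left (hfm.pow m) (he ▸ g.charpoly_monic)
    have hm : m ≠ 0 := by
      rintro rfl
      rw [pow_zero, one_mul] at he
      exact hb (he ▸ hfdvd)
    have hCH : aeval g (f ^ m) * aeval g b = 0 := by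
      rw [← map_mul, ← he]; exact LinearMap.aeval_self_charpoly g
    have hcop : IsCoprime (f ^ m) b := ((hf.coprime_iff_not_dvd).2 hb).pow_left
    set A := LinearMap.ker (aeval g (f ^ m)) with hAdef
    set B := LinearMap.ker (aeval g b) with hBdef
    have hA : ∀ x ∈ A, g x ∈ A := fun x hx => by
      rw [hAdef, LinearMap.mem_ker] at hx ⊢
      have hc := ((Commute.all (f ^ m) (X : F[X])).map (aeval g)).eq
      rw [aeval_X] at hc
      rw [← Module.End.mul_apply, hc, Module.End.mul_apply, hx, map_zero]
    have hB : ∀ x ∈ B, g x ∈ B := fun x hx => by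
      rw [hBdef, LinearMap.mem_ker] at hx ⊢
      have hc := ((Commute.all b (X : F[X])).map (aeval g)).eq
      rw [aeval_X] at hc
      rw [← Module.End.mul_apply, hc, Module.End.mul_apply, hx, map_zero]
    have hAB : IsCompl A B := by
      refine ⟨Polynomial.disjoint_ker_aeval_of_isCoprime g hcop, codisjoint_iff.2 ?_⟩
      rw [hAdef, hBdef, Polynomial.sup_ker_aeval_eq_ker_aeval_mul_of_coprime g hcop, map_mul, hCH,
        LinearMap.ker_zero]
    have hAlt : finrank F A < n := by
      refine hV ▸ Submodule.finrank_lt fun h => ?_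
      have h0 : aeval g (f ^ m) = 0 := LinearMap.ker_eq_top.1 h
      by_cases hb1 : b = 1
      · exact hprim ⟨f, hf, hfm, m, by rw [← map_pow, h0]⟩
      obtain ⟨r, hrm, hr, hrb⟩ := exists_monic_irreducible_factor b (fun hu => hb1 (hbm.eq_one_of_isUnit hu))
      have h1 : r ∣ f ^ m := dvd_of_dvd_charpoly hr (hrb.trans (he ▸ dvd_mul_left b _)) h0
      have h2 : r = f := eq_of_monic_of_associated hrm hfm (hr.associated_of_dvd hf (hr.prime.dvd_of_dvd_pow h1))
      exact hb (h2 ▸ hrb)
    have hBlt : finrank F B < n := by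
      refine hV ▸ Submodule.finrank_lt fun h => ?_
      exact hb (dvd_of_dvd_charpoly hf hfdvd (LinearMap.ker_eq_top.1 h))
    have hdich : ∀ W : Submodule F V, fres hM ι g W ≠ 0 → W ≤ A ∨ W ≤ B := by
      intro W hW
      rw [fres] at hW
      split_ifs at hW with hgW
      swap; · exact absurd rfl hW
      rw [fcl] at hW
      split_ifs at hW with hh
      swap; · exact absurd rfl hW
      obtain ⟨-, r, hr, hrm, t, ht⟩ := hh
      rw [← map_pow] at ht
      have hz : ∀ x ∈ W, aeval g (r ^ t) x = 0 := fun x hx => by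
        have := congrArg (fun T : Module.End F W => (T ⟨x, hx⟩ : V)) ht
        simp only [coe_aeval_restrict] at this
        exact this
      have key : ∀ P R : F[X], IsCoprime (r ^ t) P → aeval g P * aeval g R = 0 →
          ∀ x ∈ W, aeval g R x = 0 := by
        intro P R hPr hPR x hx
        obtain ⟨a, c, hac⟩ := hPr
        have h := congrArg (fun Q : F[X] => aeval g (R * Q) x) hac
        simp only [mul_one] at h
        rw [← h, mul_add, map_add, LinearMap.add_apply, ← mul_assoc, map_mul, Module.End.mul_apply, hz x hx,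
          map_zero, zero_add, show R * (c * P) = c * (P * R) by ring, map_mul, map_mul, hPR,
          mul_zero, LinearMap.zero_apply]
      by_cases hrf : r = f
      · subst hrf
        left
        intro x hx
        exact key b _ ((hr.coprime_iff_not_dvd).2 hb).pow_left (by rw [← map_mul, mul_comm, map_mul, hCH]) x hx
      · right
        intro x hx
        refine key (f ^ m) b ?_ hCH x hx
        refine IsCoprime.pow ((hr.coprime_iff_not_dvd).2 fun h => hrf ?_)
        exact eq_of_monic_of_associated hrm hfm (hr.associated_of_dvd hf h)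
    have hsplit : ∀ W : Submodule F V, fres hM ι g W =
        (if W ≤ A then fres hM ι g W else 0) + (if W ≤ B then fres hM ι g W else 0) := by
      intro W
      by_cases hz : fres hM ι g W = 0
      · simp [hz]
      · have hne : ¬ (W ≤ A ∧ W ≤ B) := by
          rintro ⟨h1, h2⟩
          have : W = ⊥ := le_bot_iff.1 (hAB.inf_eq_bot ▸ le_inf h1 h2)
          exact hz (this ▸ fres_bot hM ι g)
        rcases hdich W hz with h | h
        · rw [if_pos h, if_neg fun h' => hne ⟨h, h'⟩, add_zero]
        · rw [if_neg fun h' => hne ⟨h', h⟩, if_pos h, zero_add]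
    have hpart : ∀ (C : Submodule F V) (hC : ∀ x ∈ C, g x ∈ C), finrank F C < n →
        ∑ W : Submodule F V, (if W ≤ C then fres hM ι g W else 0) = lg hM ι (g.restrict hC) := by
      intro C hC hlt
      have := Fintype.ofFinite (Submodule F C)
      rw [← ih _ hlt C (g.restrict hC) rfl, ← Finset.sum_filter]
      symm
      refine Finset.sum_bij (fun W _ => W.map C.subtype)
        (fun W _ => Finset.mem_filter.2 ⟨Finset.mem_univ _, Submodule.map_subtype_le _ _⟩)
        (fun W _ W' _ h => Submodule.map_injective_of_injective C.injective_subtype h)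
        (fun W hW => ⟨W.comap C.subtype, Finset.mem_univ _, by
          rw [Submodule.map_comap_subtype]; exact inf_eq_right.2 (Finset.mem_filter.1 hW).2⟩)
        (fun W _ => (fres_map hM ι hC W).symm)
    rw [Finset.sum_congr rfl fun W _ => hsplit W, Finset.sum_add_distrib, hpart A hA hAlt,
      hpart B hB hBlt, lg, lg, lg, charpoly_isCompl hAB hA hB, Polynomial.map_mul,
      lsum_mul hM ((LinearMap.charpoly_monic _).map ι).ne_zero ((LinearMap.charpoly_monic _).map ι).ne_zero]

end CfsgLib.Char.GLCusp
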